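import Cfsg.Agent.Lib.M23.Graph

/-!
The largest sets of pairwise commuting transpositions of the group Fi22 have twenty-two members.
-/

set_option autoImplicit false
set_option linter.style.longLine false

namespace CfsgLib.M23

open CfsgLib.CosetEnum CfsgLib.Fi22Pres Cfsg.Spor

/-- twenty-two points commuting pairwise -/
def bigClique : List ℕ := [0, 7, 31, 32, 54, 78, 109, 111, 216, 219, 220, 272, 340, 637, 1764, 1809, 1828, 2149, 2684, 2686, 2687, 2769]

/-- twenty sets without commuting pairs covering the common neighbours of two commuting points -/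
def colours : List (List ℕ) := [[9, 31, 50, 223, 359, 471, 591, 698, 855], [81, 109, 173, 225, 441, 555, 731, 849, 899], [1027, 1186, 1210, 1358, 1443, 1786, 1987, 2684, 2857], [1237, 1375, 1436, 1709, 1827, 2010, 2059, 2686, 2942], [11, 33, 51, 141, 216, 287, 367, 464, 575], [135, 176, 272, 336, 357, 432, 583, 688, 1003], [446, 563, 1008, 1173, 1228, 1238, 1403, 2039, 2149], [541, 832, 1422, 1551, 1564, 1778, 1914, 2513, 2687], [32, 82, 136, 184, 229, 290, 435, 463, 565], [108, 172, 219, 439, 450, 564, 680, 692, 714], [340, 857, 880, 1035, 1041, 1198, 1215, 1434, 1537], [637, 907, 1451, 1616, 1986, 1999, 2175, 2433, 2856], [52, 55, 60, 62, 111, 174, 347, 451, 720], [138, 213, 220, 335, 342, 349, 549, 837, 1090], [830, 1002, 1201, 1235, 1392, 1540, 1727, 1809, 2085], [858, 1040, 1468, 1549, 1763, 1941, 2432, 2769, 3270], [54, 56, 106, 114, 180, 183, 284, 339, 886], [78, 85, 214, 279, 437, 445, 551, 829, 905], [715, 833, 1025, 1245, 1351, 1587, 1590, 1764, 2431], [1009, 1550, 1828, 1985, 2255, 2364, 2512, 2855, 3271]]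

theorem clique_ok : (bigClique.all fun a => bigClique.all fun b =>
    Nat.blt a 3510 && (Nat.beq a b || comB a b)) = true := by decide +kernel

theorem clique_nodup : bigClique.Nodup ∧ bigClique.length = 22 := by decide +kernel

theorem colours_len : colours.length = 20 := by decide +kernel

theorem colours_indep : (colours.all fun l => l.all fun a => l.all fun b => Nat.beq a b || !comB a b) = true := by
  decide +kernel

theorem colours_cover : allUp (fun y => !(Nat.blt y 3510) || !(subMask0.testBit y) || Nat.beq y 7 || !comB 7 y ||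
    colours.any fun l => l.contains y) 12 0 = true := by decide +kernel

theorem tr_base : tr setupA.base = gen 0 := setupA.conjAt_base (gen 0)

theorem base_comm {y : Pt} (hy : y ≠ setupA.base) (h : Commute (gen 0) (tr y)) : subMask0.testBit y = true := by
  have h' := (Fi22Pres.graph.mask y).mpr h
  rw [commMask, Nat.testBit_or, Bool.or_eq_true] at h'
  refine h'.resolve_left fun e => hy (Fin.ext ?_)
  exact (Nat.testBit_one_eq_true_iff_self_eq_zero.1 e)

theorem clique_exists : ∃ S : Finset Pt, S.card = 22 ∧ ∀ a ∈ S, ∀ b ∈ S, Commute (tr a) (tr b) := by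
  have h := clique_ok
  simp only [List.all_eq_true, Bool.and_eq_true, Bool.or_eq_true, Nat.blt_eq] at h
  let f : Fin bigClique.length → Pt := fun i => ⟨bigClique[i], (h _ (List.getElem_mem i.2) _ (List.getElem_mem i.2)).1⟩
  have hf : Function.Injective f := fun i j e =>
    Fin.ext ((List.Nodup.getElem_inj_iff clique_nodup.1).1 (congrArg Fin.val e :))
  refine ⟨Finset.univ.image f, by rw [Finset.card_image_of_injective _ hf, Finset.card_univ, Fintype.card_fin, clique_nodup.2],
    fun a ha b hb => ?_⟩
  obtain ⟨i, -, rfl⟩ := Finset.mem_image.1 ha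
  obtain ⟨j, -, rfl⟩ := Finset.mem_image.1 hb
  rcases (h _ (List.getElem_mem i.2) _ (List.getElem_mem j.2)).2 with e | e
  · rw [show f i = f j from Fin.ext (Nat.eq_of_beq_eq_true e)]
  · exact (comB_iff (f i) (f j)).1 e

theorem clique_le (S : Finset Pt) (hS : ∀ a ∈ S, ∀ b ∈ S, Commute (tr a) (tr b)) : S.card ≤ 22 := by
  classical
  rcases S.eq_empty_or_nonempty with rfl | ⟨x, hx⟩
  · simp
  obtain ⟨g, hg⟩ := to_base x
  have hmove : ∀ (g : Fi22) (T : Finset Pt), (∀ a ∈ T, ∀ b ∈ T, Commute (tr a) (tr b)) →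
      ∀ a ∈ T.image (rho g), ∀ b ∈ T.image (rho g), Commute (tr a) (tr b) := by
    intro g T hT a ha b hb
    obtain ⟨a, ha', rfl⟩ := Finset.mem_image.1 ha
    obtain ⟨b, hb', rfl⟩ := Finset.mem_image.1 hb
    rw [← tr_smul, ← tr_smul]
    exact (Commute.conj_iff g).2 (hT a ha' b hb')
  set S₁ := S.image (rho g)
  have hS₁ := hmove g S hS
  have hb1 : setupA.base ∈ S₁ := hg ▸ Finset.mem_image_of_mem _ hx
  rw [← Finset.card_image_of_injective S (rho g).injective]
  change S₁.card ≤ 22
  by_cases hone : ∀ y ∈ S₁, y = setupA.base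
  · calc S₁.card ≤ ({setupA.base} : Finset Pt).card := Finset.card_le_card fun y hy => Finset.mem_singleton.2 (hone y hy)
      _ ≤ 22 := by simp
  push Not at hone
  obtain ⟨y, hy, hyb⟩ := hone
  have hc := hS₁ _ hb1 _ hy
  rw [tr_base] at hc
  obtain ⟨u, hu, huy⟩ := (setupA.orbit_mem_iff subMask0_orbit y).2 (base_comm hyb hc)
  have hub : rho u⁻¹ setupA.base = setupA.base := (setupA.mem_iff u⁻¹).1 (inv_mem hu)
  set p : Pt := ⟨7, subMask0_orbit.mem.1⟩
  have hup : rho u⁻¹ y = p := by rw [← huy, ← Equiv.Perm.mul_apply, ← map_mul, inv_mul_cancel, map_one]; rfl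
  set S₂ := S₁.image (rho u⁻¹)
  have hS₂ := hmove u⁻¹ S₁ hS₁
  have hb2 : setupA.base ∈ S₂ := hub ▸ Finset.mem_image_of_mem _ hb1
  have hp2 : p ∈ S₂ := hup ▸ Finset.mem_image_of_mem _ hy
  rw [← Finset.card_image_of_injective S₁ (rho u⁻¹).injective]
  change S₂.card ≤ 22
  set R := S₂ \ {setupA.base, p}
  have hcol : ∀ z ∈ R, ∃ i : Fin colours.length, (z : ℕ) ∈ colours[i] := by
    intro z hz
    simp only [R, Finset.mem_sdiff, Finset.mem_insert, Finset.mem_singleton, not_or] at hz
    obtain ⟨hz2, hzb, hzp⟩ := hz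
    have h1 := hS₂ _ hb2 _ hz2
    rw [tr_base] at h1
    have h2 := (comB_iff p z).2 (hS₂ _ hp2 _ hz2)
    have h3 := allUp_spec colours_cover z (Nat.zero_le _) (lt_of_lt_of_le z.2 (by simpa using hN))
    have h4 : Nat.beq z 7 = false := by
      rw [Bool.eq_false_iff]; exact fun e => hzp (Fin.ext (Nat.eq_of_beq_eq_true e))
    rw [show Nat.blt z 3510 = true by rw [Nat.blt_eq]; exact z.2, base_comm hzb h1, h4,
      show comB 7 z = true from h2] at h3
    simp only [Bool.not_true, Bool.false_or, List.any_eq_true, List.contains_iff_mem] at h3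
    obtain ⟨l, hl, hzl⟩ := h3
    obtain ⟨i, hi, rfl⟩ := List.getElem_of_mem hl
    exact ⟨⟨i, hi⟩, hzl⟩
  choose col hcol using hcol
  have hR : R.card ≤ 20 := by
    have hinj : Function.Injective fun z : R => col z z.2 := fun a b e => by
      by_contra hne
      have h := colours_indep
      simp only [List.all_eq_true, Bool.or_eq_true] at h
      have ha := hcol a a.2
      rw [show col a a.2 = col b b.2 from e] at ha
      rcases h _ (List.getElem_mem (col b b.2).2) _ ha _ (hcol b b.2) with h' | h'
      · exact hne (Subtype.ext (Fin.ext (Nat.eq_of_beq_eq_true h')))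
      · rw [Bool.not_eq_true'] at h'
        have h2 := (comB_iff (a : Pt) (b : Pt)).2
          (hS₂ _ (Finset.mem_sdiff.1 a.2).1 _ (Finset.mem_sdiff.1 b.2).1)
        rw [h2] at h'
        exact Bool.noConfusion h'
    have := Fintype.card_le_of_injective _ hinj
    rwa [Fintype.card_coe, Fintype.card_fin, colours_len] at this
  have h2 := Finset.card_le_card (s := S₂) (t := R ∪ {setupA.base, p}) (by
    intro z hz
    simp only [R, Finset.mem_union, Finset.mem_sdiff]
    tauto)
  have h3 := Finset.card_union_le R {setupA.base, p}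
  have h4 := Finset.card_le_two (a := setupA.base) (b := p)
  omega

end CfsgLib.M23
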