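import Cfsg.Agent.Lib.M23.Fi23Facts
import Cfsg.Agent.Lib.M23.Recog
import Cfsg.Prelude.Def_CaseTheorems

/-!
Order, width and centralizers of transpositions in groups which are Fi23 with its class.
-/

set_option autoImplicit false

namespace CfsgLib.M23

open Cfsg.Spor

variable {G : Type*} [Group G]

theorem image_perp (Φ : Fi23 ≃* G) (S : Set Fi23) (x : Fi23) :
    Φ '' perp S x = perp (Φ '' S) (Φ x) := by
  ext y
  obtain ⟨z, rfl⟩ := Φ.surjective y
  simp only [Φ.injective.mem_set_image, Set.mem_ofPred_eq, Φ.injective.ne_iff]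
  refine and_congr Iff.rfl (and_congr Iff.rfl ⟨fun h => h.map Φ.toMonoidHom, fun h => ?_⟩)
  have h' := h.map Φ.symm.toMonoidHom
  simpa using h'

theorem facts_of_iso [Finite G] (Φ : Fi23 ≃* G) :
    let D := Φ '' Fi23Pres.transClass
    IsSimpleGroup G ∧ D.ncard = 31671 ∧ Nat.card G = 2 ^ 18 * 3 ^ 13 * 5 ^ 2 * 7 * 11 * 13 * 17 * 23 ∧
      Cfsg.commutingWidth D = 23 ∧
      ∀ d ∈ D, Subgroup.closure (perp D d) = Subgroup.centralizer ({d} : Set G) ∧
        Cfsg.IsQuasisimple ↥(Subgroup.closure (perp D d)) ∧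
        Subgroup.center ↥(Subgroup.closure (perp D d)) =
          (Subgroup.zpowers d).subgroupOf (Subgroup.closure (perp D d)) := by
  intro D
  haveI : IsSimpleGroup Fi23 := Fi23Pres.isFi23.1
  haveI : Nontrivial G := Φ.symm.toEquiv.nontrivial
  refine ⟨IsSimpleGroup.isSimpleGroup_of_surjective Φ.toMonoidHom Φ.surjective, ?_, ?_, ?_, ?_⟩
  · rw [Set.ncard_image_of_injective _ Φ.injective, ← Nat.card_coe_set_eq, Fi23Pres.transClass_card]
  · rw [← Nat.card_congr Φ.toEquiv, Fi23Pres.card_faithful.1]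
    norm_num
  · rw [← width23]
    unfold Cfsg.commutingWidth
    congr 1
    ext n
    constructor
    · rintro ⟨E, hE, hf, hc, rfl⟩
      refine ⟨Φ ⁻¹' E, fun x hx => Φ.injective.mem_set_image.1 (hE hx), hf.preimage Φ.injective.injOn,
        fun a ha b hb => ?_, Set.ncard_preimage_of_injective_subset_range Φ.injective
          (fun y _ => Φ.surjective y)⟩
      have h' := (hc _ ha _ hb).map Φ.symm.toMonoidHom
      simpa using h'
    · rintro ⟨E, hE, hf, hc, rfl⟩
      refine ⟨Φ '' E, Set.image_mono hE, hf.image _, ?_, Set.ncard_image_of_injective _ Φ.injective⟩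
      rintro - ⟨a, ha, rfl⟩ - ⟨b, hb, rfl⟩
      exact (hc a ha b hb).map Φ.toMonoidHom
  · rintro - ⟨x, hx, rfl⟩
    obtain ⟨g, rfl⟩ := isConj_iff.1 (hx : IsConj Fi23Pres.central x)
    have hcl : (fun y => g * y * g⁻¹) '' Fi23Pres.transClass = Fi23Pres.transClass := by
      ext y
      refine ⟨fun ⟨z, hz, e⟩ => e ▸ class_conj hz, fun hy => ⟨g⁻¹ * y * g⁻¹⁻¹, class_conj hy, by simp [mul_assoc]⟩⟩
    let Ψ : Fi23 ≃* G := (MulAut.conj g).trans Φ
    have hD : D = Ψ '' Fi23Pres.transClass := by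
      conv_lhs => rw [show D = Φ '' Fi23Pres.transClass from rfl, ← hcl, Set.image_image]
      rfl
    have hx' : Φ (g * Fi23Pres.central * g⁻¹) = Ψ Fi23Pres.coverZ := rfl
    have hcl' : Subgroup.closure (perp D (Φ (g * Fi23Pres.central * g⁻¹))) =
        (Subgroup.closure (perp Fi23Pres.transClass Fi23Pres.coverZ)).map Ψ.toMonoidHom := by
      rw [hx', hD, ← image_perp, MonoidHom.map_closure]
      rfl
    obtain ⟨h1, h2, h3⟩ := perp_structure
    rw [hcl', hx']
    let ε := (Subgroup.closure (perp Fi23Pres.transClass Fi23Pres.coverZ)).equivMapOfInjective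
      Ψ.toMonoidHom Ψ.injective
    refine ⟨?_, Layer.isQuasisimple_of_mulEquiv ε h2, ?_⟩
    · rw [h1]
      ext y
      rw [Subgroup.mem_map_equiv, Subgroup.mem_centralizer_singleton_iff, Subgroup.mem_centralizer_singleton_iff,
        ← Ψ.injective.eq_iff, map_mul, map_mul, Ψ.apply_symm_apply]
    · ext y
      obtain ⟨z, rfl⟩ := ε.surjective y
      have hz : ε z ∈ Subgroup.center _ ↔ z ∈ Subgroup.center _ := by
        simp only [Subgroup.mem_center_iff]
        refine ⟨fun h w => ε.injective ?_, fun h w => ?_⟩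
        · simpa only [map_mul] using h (ε w)
        · obtain ⟨w, rfl⟩ := ε.surjective w
          simpa only [← map_mul] using congrArg ε (h w)
      rw [hz, h3, Subgroup.mem_subgroupOf, Subgroup.mem_subgroupOf,
        show ((ε z : _) : G) = Ψ (z : Fi23) from rfl,
        show Ψ Fi23Pres.coverZ = Ψ.toMonoidHom Fi23Pres.coverZ from rfl, ← MonoidHom.map_zpowers,
        show Ψ (z : Fi23) = Ψ.toMonoidHom (z : Fi23) from rfl]
      exact (Subgroup.mem_map_iff_mem Ψ.injective).symm

end CfsgLib.M23
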