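import Cfsg.Agent.Lib.Fi22Pres.Out

/-!
The graph of commuting transpositions of the presented group Fi22, on coset numbers.
-/

set_option autoImplicit false

namespace CfsgLib.M23

open CfsgLib.CosetEnum CfsgLib.Fi22Pres Cfsg.Spor

/-- points -/
abbrev Pt : Type := Fin certA.N

/-- the transposition of a point -/
noncomputable def tr (x : Pt) : Fi22 := conjAt certA gen (gen 0) x

theorem tr_smul (g : Fi22) (x : Pt) : g * tr x * g⁻¹ = tr (rho g x) :=
  setupA.conjAt_smul comm_first g x

theorem tr_inj {x y : Pt} (h : tr x = tr y) : x = y := Fi22Pres.graph.injective h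

theorem tr_mem (x : Pt) : tr x ∈ conjugatesOf (gen 0) := by
  refine (isConj_iff.mpr ⟨(coreRep certA gen x)⁻¹, ?_⟩ : IsConj (gen 0) (tr x))
  simp [tr, conjAt, mul_assoc]

theorem exists_tr {d : Fi22} (h : d ∈ conjugatesOf (gen 0)) : ∃ x : Pt, tr x = d := by
  obtain ⟨c, rfl⟩ := isConj_iff.mp (show IsConj (gen 0) d from h)
  exact ⟨_, (setupA.conj_eq_conjAt comm_first c).symm⟩

theorem to_base (x : Pt) : ∃ g : Fi22, rho g x = setupA.base := by
  refine ⟨coreRep certA gen x, ?_⟩
  have h := congrArg (rho (coreRep certA gen x)) (setupA.rho_rep_inv x)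
  rw [← Equiv.Perm.mul_apply, ← map_mul, mul_inv_cancel, map_one] at h
  exact h.symm

/-- two points commute -/
noncomputable def comB (x y : ℕ) : Bool := certA.relB commMask x y

theorem comB_iff (x y : Pt) : comB x y = true ↔ Commute (tr x) (tr y) := by
  set c := coreRep certA gen x with hc
  rw [comB, Cert.relB, ← setupA.seenFrom_eq repWords, Fi22Pres.graph.mask]
  have e1 : c * tr x * c⁻¹ = gen 0 := by simp [tr, conjAt, hc, mul_assoc]
  rw [show conjAt certA gen (gen 0) (rho c y : ℕ) = tr (rho c y) from rfl, ← tr_smul, ← e1]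
  exact commute_mulAut_conj c _ _
where
  commute_mulAut_conj (c a b : Fi22) : Commute (c * a * c⁻¹) (c * b * c⁻¹) ↔ Commute a b := by
    simp only [Commute, SemiconjBy]
    constructor
    · intro h
      have h' := congrArg (fun u => c⁻¹ * u * c) h
      simpa [mul_assoc] using h'
    · intro h
      calc c * a * c⁻¹ * (c * b * c⁻¹) = c * (a * b) * c⁻¹ := by group
        _ = c * (b * a) * c⁻¹ := by rw [h]
        _ = c * b * c⁻¹ * (c * a * c⁻¹) := by group

/-- the image of a point under the transposition of another -/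
noncomputable def actPt (z y : ℕ) : ℕ := certA.run y (certA.revInv (certA.conjWord 0 z))

theorem actPt_eq (z y : Pt) : (rho (tr z) y : ℕ) = actPt z y := by
  rw [tr, conj_eq z.2, setupA.rho_prodW (conj_letters z.2)]
  rfl

end CfsgLib.M23
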