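import Cfsg.Agent.Lib.Fi23Pres.Cover
import Cfsg.Agent.Lib.M23.Graph

/-!
The letters of the presented groups Fi22 and Fi23, and maps out of Fi23.
-/

set_option autoImplicit false

namespace CfsgLib.M23

open CfsgLib.CosetEnum Cfsg.Spor

/-- the label of two letters of Fi23 -/
def lab (k l : ℕ) : ℕ :=
  coxLabel Fi23.edges (Fi23Pres.letters.getD k .a) (Fi23Pres.letters.getD l .a)

/-- the spider word -/
def wordS : List ℕ := powWord [3, 2, 1, 3, 4, 5, 3, 7, 8] 10

/-- the first word of type seven -/
def wordA : List ℕ := powWord [0, 1, 2, 3, 4, 5, 7] 9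

/-- the second word of type seven -/
def wordB : List ℕ := powWord [1, 2, 3, 4, 5, 6, 7] 9

/-- the first half of the central word -/
def halfWord : List ℕ := [9, 6, 5, 4, 3, 7, 2, 3, 4, 5, 6, 9, 1, 2, 3, 7, 4, 5, 3, 4, 2, 3, 7, 6, 5, 4, 3, 2]

theorem central_word : Fi23Pres.zWord = halfWord ++ 1 :: halfWord.reverse ∧ ∀ g ∈ halfWord, g < 10 := by
  decide +kernel

theorem word_facts : ((wordS.all fun g => Nat.blt g 9 && !Nat.beq g 6) && (wordA.all fun g => Nat.blt g 9 && !Nat.beq g 6) &&
    (wordB.all fun g => Nat.blt g 9) && ([wordS, wordA, wordB].all fun w => Fi22Pres.certA.rels.contains w)) = true := by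
  decide +kernel

theorem word_rel {w : List ℕ} (h : w ∈ [wordS, wordA, wordB]) : prodW Fi22Pres.gen w = 1 := by
  have hw := word_facts
  simp only [Bool.and_eq_true] at hw
  exact Fi22Pres.modelA.rel w (List.contains_iff_mem.mp (List.all_eq_true.mp hw.2 w h))

theorem prodW_reverse {Γ : Type*} [Group Γ] {f : ℕ → Γ} (hf : ∀ g, f g * f g = 1) (w : List ℕ) :
    prodW f w.reverse = (prodW f w)⁻¹ := by
  induction w with
  | nil => simp
  | cons a w ih =>
    rw [List.reverse_cons, prodW_append, ih, prodW_cons, prodW_cons, prodW_nil, mul_one, _root_.mul_inv_rev,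
      inv_eq_of_mul_eq_one_right (hf a)]

/-- a map out of Fi23 from ten elements -/
theorem exists_hom {Γ : Type*} [Group Γ] (f : ℕ → Γ) (hpair : ∀ k < 10, ∀ l < 10, (f k * f l) ^ lab k l = 1)
    (hS : prodW f wordS = 1) (hA : prodW f wordA = 1) :
    ∃ ψ : Fi23 →* Γ, ∀ k < 10, ψ (Fi23Pres.gen k) = f k := by
  let f' : Fi23.Gen → Γ := fun x => f (Fi23Pres.letters.idxOf x)
  have hidx : ∀ x : Fi23.Gen, Fi23Pres.letters.idxOf x < 10 ∧
      Fi23Pres.letters.getD (Fi23Pres.letters.idxOf x) .a = x := by
    intro x; cases x <;> decide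
  have hp : ∀ x y, (f' x * f' y) ^ coxLabel Fi23.edges x y = 1 := fun x y => by
    have h := hpair _ (hidx x).1 _ (hidx y).1
    rwa [lab, (hidx x).2, (hidx y).2] at h
  have hsq : ∀ x, f' x * f' x = 1 := fun x => by
    have := hp x x
    rwa [coxLabel_self, pow_one] at this
  have hgen : ∀ k < 10, genOf Fi23Pres.letters f' k = f k := fun k hk => by
    rw [genOf_of_lt (show k < Fi23Pres.letters.length from hk)]
    simp only [f', List.Nodup.idxOf_getElem (by decide) k (show k < Fi23Pres.letters.length from hk)]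
  have hrels : ∀ r ∈ coxRelators Fi23.edges ∪ {r | r ∈ Fi23.extra}, FreeGroup.lift f' r = 1 := by
    rintro r (⟨x, -, y, -, rfl⟩ | hr)
    · simp only [map_pow, map_mul, FreeGroup.lift_apply_of]
      exact hp x y
    · simp only [Set.mem_ofPred_eq, Fi23.extra, List.mem_cons, List.not_mem_nil, or_false] at hr
      rw [wordS, prodW_powWord] at hS
      rw [wordA, prodW_powWord] at hA
      rcases hr with rfl | rfl
      · rw [map_pow]
        refine Eq.trans (congrArg (· ^ 10) ?_) hS
        simp only [Fi23.b, Fi23.c, Fi23.d, Fi23.e, Fi23.f, Fi23.h, Fi23.i, map_mul, FreeGroup.lift_apply_of,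
          prodW_cons, prodW_nil, mul_one, mul_assoc]
        rfl
      · rw [map_pow]
        refine Eq.trans (congrArg (· ^ 9) ?_) hA
        simp only [Fi23.a, Fi23.b, Fi23.c, Fi23.d, Fi23.e, Fi23.f, Fi23.h, map_mul, FreeGroup.lift_apply_of,
          prodW_cons, prodW_nil, mul_one, mul_assoc]
        rfl
  refine ⟨PresentedGroup.toGroup hrels, fun k hk => ?_⟩
  rw [← hgen k hk, Fi23Pres.gen, presGen, genOf_of_lt (show k < Fi23Pres.letters.length from hk),
    genOf_of_lt (show k < Fi23Pres.letters.length from hk)]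
  exact PresentedGroup.toGroup.of hrels

theorem gens22 : ((List.range 9).all fun k => (List.range 9).all fun l =>
    Nat.beq k l || !sameBases Fi22Pres.certA Fi22Pres.levels [k] [l]) = true := by decide +kernel

theorem gen22_ne {k l : ℕ} (hk : k < 9) (hl : l < 9) (h : k ≠ l) : Fi22Pres.gen k ≠ Fi22Pres.gen l := by
  have h1 := List.all_eq_true.mp (List.all_eq_true.mp gens22 k (List.mem_range.mpr hk)) l (List.mem_range.mpr hl)
  rw [Bool.or_eq_true, Bool.not_eq_true'] at h1
  have h2 := h1.resolve_left fun e => h (Nat.eq_of_beq_eq_true e)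
  simp only [sameBases, List.all_eq_false, Bool.not_eq_true] at h2
  obtain ⟨L, hL, hne⟩ := h2
  have hb : (Fi22Pres.levels.all fun l => Nat.blt l.base Fi22Pres.certA.N) = true := by decide +kernel
  simp only [List.all_eq_true, Nat.blt_eq] at hb
  intro e
  exact Fi22Pres.setupA.ne_of_run (u := [k]) (w := [l]) (by simpa using (show k < Fi22Pres.certA.K from hk))
    (by simpa using (show l < Fi22Pres.certA.K from hl)) (hb L hL) hne (by simpa using e)

theorem gen22_rel {k l : ℕ} (hk : k < 9) (hl : l < 9) : (Fi22Pres.gen k * Fi22Pres.gen l) ^ lab k l = 1 := by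
  have hn : ∀ x : Fi22.Gen, x ∈ coxNodes Fi22.edges := by intro x; cases x <;> decide
  have hlab : ∀ k < 9, ∀ l < 9, lab k l =
      coxLabel Fi22.edges (Fi22Pres.letters.getD k .a) (Fi22Pres.letters.getD l .a) := by decide +kernel
  rw [hlab k hk l hl, Fi22Pres.gen, presGen, genOf_of_lt (show k < Fi22Pres.letters.length from hk),
    genOf_of_lt (show l < Fi22Pres.letters.length from hl),
    List.getD_eq_getElem _ _ (show k < Fi22Pres.letters.length from hk),
    List.getD_eq_getElem _ _ (show l < Fi22Pres.letters.length from hl)]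
  exact of_pair (extra := Fi22.extra) (hn _) (hn _)

theorem lab_cases : ∀ k < 10, ∀ l < 10,
    (lab k l = if k = l then 1 else if (k, l) ∈ [(0, 1), (1, 0), (1, 2), (2, 1), (2, 3), (3, 2), (3, 4), (4, 3), (4, 5), (5, 4),
      (5, 6), (6, 5), (3, 7), (7, 3), (7, 8), (8, 7), (6, 9), (9, 6)] then 3 else 2) := by
  decide +kernel

theorem gen22_commute {k l : ℕ} (hk : k < 9) (hl : l < 9) (h : k ≠ l) :
    Commute (Fi22Pres.gen k) (Fi22Pres.gen l) ↔ lab k l = 2 := by
  have hrel := gen22_rel hk hl
  have hs := Fi22Pres.gen_sq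
  constructor
  · intro hc
    have h3 := lab_cases k (by omega) l (by omega)
    rw [if_neg h] at h3
    split at h3
    · exfalso
      rw [h3, pow_succ, pow_two, hc.symm.mul_mul_mul_comm, hs, hs, one_mul, one_mul] at hrel
      exact gen22_ne hk hl h ((mul_eq_one_iff_eq_inv.1 hrel).trans (inv_eq_of_mul_eq_one_right (hs l)))
    · exact h3
  · intro e
    rw [e, pow_two] at hrel
    show _ = _
    have := inv_eq_of_mul_eq_one_right hrel
    rw [_root_.mul_inv_rev, inv_eq_of_mul_eq_one_right (hs k), inv_eq_of_mul_eq_one_right (hs l)] at this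
    exact this.symm

theorem braid_conj {Γ : Type*} [Group Γ] {a b : Γ} (ha : a * a = 1) (hb : b * b = 1) (h : (a * b) ^ 3 = 1) :
    (a * b) * a * (a * b)⁻¹ = b := by
  have h' : a * (b * (a * (b * (a * b)))) = 1 := by
    rw [pow_succ, pow_two] at h; simpa only [mul_assoc] using h
  rw [_root_.mul_inv_rev, inv_eq_of_mul_eq_one_right ha, inv_eq_of_mul_eq_one_right hb]
  calc a * b * a * (b * a) = a * (b * (a * (b * (a * (b * b))))) := by rw [hb, mul_one]; simp only [mul_assoc]
    _ = a * (b * (a * (b * (a * b)))) * b := by simp only [mul_assoc]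
    _ = b := by rw [h', one_mul]

theorem gen22_conj : ∀ k < 9, IsConj (Fi22Pres.gen 0) (Fi22Pres.gen k) := by
  have step : ∀ k l, k < 9 → l < 9 → lab k l = 3 → IsConj (Fi22Pres.gen k) (Fi22Pres.gen l) := fun k l hk hl e => by
    have := gen22_rel hk hl
    rw [e] at this
    exact isConj_iff.2 ⟨_, braid_conj (Fi22Pres.gen_sq k) (Fi22Pres.gen_sq l) this⟩
  have h01 := step 0 1 (by norm_num) (by norm_num) (by decide +kernel)
  have h02 := h01.trans (step 1 2 (by norm_num) (by norm_num) (by decide +kernel))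
  have h03 := h02.trans (step 2 3 (by norm_num) (by norm_num) (by decide +kernel))
  have h04 := h03.trans (step 3 4 (by norm_num) (by norm_num) (by decide +kernel))
  have h05 := h04.trans (step 4 5 (by norm_num) (by norm_num) (by decide +kernel))
  have h06 := h05.trans (step 5 6 (by norm_num) (by norm_num) (by decide +kernel))
  have h07 := h03.trans (step 3 7 (by norm_num) (by norm_num) (by decide +kernel))
  have h08 := h07.trans (step 7 8 (by norm_num) (by norm_num) (by decide +kernel))
  intro k hk
  interval_cases k <;> first | exact IsConj.refl _ | assumption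

end CfsgLib.M23
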