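import Mathlib

/-!
Involutions with the same image modulo a central subgroup.
-/

set_option autoImplicit false

namespace CfsgLib.M23

variable {A : Type*} [Group A] {Z : Subgroup A} [Z.Normal]

/-- two involutions whose product has order at most three -/
def ShortPair (a b : A) : Prop := a * a = 1 ∧ b * b = 1 ∧ ((a * b) ^ 2 = 1 ∨ (a * b) ^ 3 = 1)

theorem sq_commute {a b : A} (ha : a * a = 1) (hb : b * b = 1) (h : (a * b) ^ 2 = 1) : Commute a b := by
  rw [pow_two] at h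
  have := inv_eq_of_mul_eq_one_right h
  rw [_root_.mul_inv_rev, inv_eq_of_mul_eq_one_right ha, inv_eq_of_mul_eq_one_right hb] at this
  exact this.symm

theorem commute_sq {a b : A} (ha : a * a = 1) (hb : b * b = 1) (h : Commute a b) : (a * b) ^ 2 = 1 := by
  rw [pow_two, h.symm.mul_mul_mul_comm, ha, hb, one_mul]

theorem commute_of_mk {a b : A} (h : ShortPair a b) (hne : (QuotientGroup.mk a : A ⧸ Z) ≠ QuotientGroup.mk b)
    (hc : Commute (QuotientGroup.mk a : A ⧸ Z) (QuotientGroup.mk b)) : Commute a b := by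
  obtain ⟨ha, hb, h2 | h3⟩ := h
  · exact sq_commute ha hb h2
  exfalso
  have e2 : ((QuotientGroup.mk (a * b) : A ⧸ Z)) ^ 2 = 1 := by
    rw [QuotientGroup.mk_mul]
    exact commute_sq (by rw [← QuotientGroup.mk_mul, ha]; rfl) (by rw [← QuotientGroup.mk_mul, hb]; rfl) hc
  have e3 : ((QuotientGroup.mk (a * b) : A ⧸ Z)) ^ 3 = 1 := by rw [← QuotientGroup.mk_pow, h3]; rfl
  rw [pow_succ, e2, one_mul, QuotientGroup.mk_mul] at e3
  refine hne ?_
  rw [mul_eq_one_iff_eq_inv.1 e3, ← QuotientGroup.mk_inv, inv_eq_of_mul_eq_one_right hb]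

theorem cube_of_mk {a b : A} (h : ShortPair a b)
    (hc : ¬ Commute (QuotientGroup.mk a : A ⧸ Z) (QuotientGroup.mk b)) : (a * b) ^ 3 = 1 :=
  h.2.2.resolve_left fun h2 => hc ((sq_commute h.1 h.2.1 h2).map (QuotientGroup.mk' Z))

theorem eq_of_mk (hZ : Z ≤ Subgroup.center A) {a b s : A} (hab : ShortPair a b) (hsa : ShortPair s a)
    (hsb : ShortPair s b) (he : (QuotientGroup.mk a : A ⧸ Z) = QuotientGroup.mk b)
    (hc : ¬ Commute (QuotientGroup.mk s : A ⧸ Z) (QuotientGroup.mk a)) : a = b := by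
  have hz := QuotientGroup.eq.1 he
  rw [inv_eq_of_mul_eq_one_right hab.1] at hz
  set z := a * b with hzdef
  have hcen : ∀ x, x * z = z * x := fun x => Subgroup.mem_center_iff.1 (hZ hz) x
  have hb : b = a * z := by rw [hzdef, ← mul_assoc, hab.1, one_mul]
  have hz2 : z * z = 1 := by
    have h := hab.2.1
    rw [hb, mul_assoc, ← mul_assoc z, ← hcen a, mul_assoc a z, ← mul_assoc, hab.1, one_mul] at h
    exact h
  have h1 := cube_of_mk hsa hc
  have h2 := cube_of_mk hsb (he ▸ hc)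
  rw [hb, ← mul_assoc, (show Commute (s * a) z from hcen (s * a)).mul_pow, h1, one_mul, pow_succ, pow_two,
    hz2, one_mul] at h2
  rw [hb, h2, mul_one]

theorem mk_eq_of_mem {A' : Type*} [Group A'] {Z' : Subgroup A'} [Z'.Normal] {a b : A} {a' b' : A'}
    (h : a * b⁻¹ ∈ Z → a' * b'⁻¹ ∈ Z') (e : (QuotientGroup.mk a : A ⧸ Z) = QuotientGroup.mk b) :
    (QuotientGroup.mk a' : A' ⧸ Z') = QuotientGroup.mk b' := by
  rw [← mul_inv_eq_one, ← QuotientGroup.mk_inv, ← QuotientGroup.mk_mul, QuotientGroup.eq_one_iff] at e ⊢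
  exact h e

theorem mk_commute_of_mem {A' : Type*} [Group A'] {Z' : Subgroup A'} [Z'.Normal] {a b : A} {a' b' : A'}
    (h : a * b * a⁻¹ * b⁻¹ ∈ Z → a' * b' * a'⁻¹ * b'⁻¹ ∈ Z')
    (e : Commute (QuotientGroup.mk a : A ⧸ Z) (QuotientGroup.mk b)) :
    Commute (QuotientGroup.mk a' : A' ⧸ Z') (QuotientGroup.mk b') := by
  rw [commute_iff_eq, ← mul_inv_eq_one, _root_.mul_inv_rev] at e ⊢
  simp only [← QuotientGroup.mk_inv, ← QuotientGroup.mk_mul, QuotientGroup.eq_one_iff, ← mul_assoc] at e ⊢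
  exact h e

end CfsgLib.M23
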