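import Cfsg.Agent.Lib.M23.Orbits
import Cfsg.Agent.Lib.CosetEnum.OutThree

/-!
Eight transpositions of Fi22 in the shape of the diagram are carried by an automorphism to generators.
-/

set_option autoImplicit false

namespace CfsgLib.M23

open CfsgLib.CosetEnum CfsgLib.Fi22Pres Cfsg.Spor

/-- the letter at a position of the diagram -/
def posLetter (i : ℕ) : ℕ := [0, 1, 2, 3, 4, 5, 7, 8].getD i 0

/-- exchange of the two arms of length two -/
def swapPos (sw : Bool) (i : ℕ) : ℕ := bif sw then [0, 1, 2, 3, 6, 7, 4, 5].getD i 0 else i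

/-- a word with letters replaced by transpositions -/
noncomputable def subW (Q : List ℕ) (w : List ℕ) : List ℕ :=
  w.flatMap fun k => certA.conjWord 0 (Q.getD k 0)

/-- the label of two letters -/
def labelN (k l : ℕ) : ℕ := coxLabel Fi22.edges (letters.getD k .a) (letters.getD l .a)

/-- the words to be checked -/
def relWords : List (List ℕ) :=
  ((List.range 9).flatMap fun k => (List.range 9).map fun l => powWord [k, l] (labelN k l)) ++ extraW

/-- one final diagram -/
noncomputable def leafOK (L : List ℕ × Bool × List ℕ) : Bool :=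
  (List.range 9).all (fun k => Nat.blt (L.2.2.getD k 0) 3510) &&
    (List.range 8).all (fun i => Nat.beq (L.2.2.getD (posLetter i) 0) (L.1.getD (swapPos L.2.1 i) 0)) &&
    relWords.all (fun w => w.all (fun g => Nat.blt g 9) && sameBases certA levels (subW L.2.2 w) [])

theorem leaves_ok : leafData.all leafOK = true := by decide +kernel

theorem leaf_aut {L : List ℕ × Bool × List ℕ} (hL : L ∈ leafData) :
    ∃ φ : Fi22 ≃* Fi22, φ '' conjugatesOf (gen 0) = conjugatesOf (gen 0) ∧
      ∀ k < 9, ∃ x : Pt, (x : ℕ) = L.2.2.getD k 0 ∧ φ (gen k) = tr x := by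
  have h := List.all_eq_true.mp leaves_ok L hL
  simp only [leafOK, Bool.and_eq_true, List.all_eq_true, List.mem_range, Nat.blt_eq] at h
  obtain ⟨⟨hlt, -⟩, hrel⟩ := h
  let pt : ℕ → Pt := fun k => if h : L.2.2.getD k 0 < 3510 then ⟨_, h⟩ else setupA.base
  let f : Fi22.Gen → Fi22 := fun x => tr (pt (letters.idxOf x))
  have hidx : ∀ x : Fi22.Gen, letters.idxOf x < 9 ∧ letters.getD (letters.idxOf x) .a = x := by
    intro x; cases x <;> decide
  have hpt : ∀ k < 9, (pt k : ℕ) = L.2.2.getD k 0 := fun k hk => by simp only [pt, dif_pos (hlt k hk)]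
  have htr : ∀ k < 9, tr (pt k) = prodW gen (certA.conjWord 0 (L.2.2.getD k 0)) := fun k hk => by
    rw [tr, hpt k hk, conj_eq (hlt k hk)]
  have hf : ∀ k < 9, genOf letters f k = tr (pt k) := fun k hk => by
    rw [genOf_of_lt (show k < letters.length from hk)]
    simp only [f, List.Nodup.idxOf_getElem (by decide) k (show k < letters.length from hk)]
  have hword : ∀ w ∈ relWords, prodW (genOf letters f) w = 1 := by
    intro w hw
    obtain ⟨hw9, hsame⟩ := hrel w hw
    have e : ∀ v : List ℕ, (∀ g ∈ v, g < 9) → prodW (genOf letters f) v = prodW gen (subW L.2.2 v) := by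
      intro v hv
      induction v with
      | nil => rfl
      | cons k v ih =>
        rw [prodW_cons, ih fun g hg => hv g (List.mem_cons_of_mem _ hg), hf k (hv k List.mem_cons_self),
          htr k (hv k List.mem_cons_self), ← prodW_append]
        rfl
    rw [e w hw9, setupA.eq_of_bases chain_ok (chain_size.trans card_faithful.1.symm) (fun g hg => ?_)
      (by simp) hsame, prodW_nil]
    obtain ⟨k, hk, hg⟩ := List.mem_flatMap.mp hg
    exact conj_letters (hlt k (hw9 k hk)) g hg
  have hrels : ∀ r ∈ coxRelators Fi22.edges ∪ {r | r ∈ Fi22.extra}, FreeGroup.lift f r = 1 := by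
    have hpair : ∀ x y, (f x * f y) ^ coxLabel Fi22.edges x y = 1 := by
      intro x y
      have hm : powWord [letters.idxOf x, letters.idxOf y] (coxLabel Fi22.edges x y) ∈ relWords := by
        refine List.mem_append_left _ (List.mem_flatMap.mpr ⟨_, List.mem_range.mpr (hidx x).1,
          List.mem_map.mpr ⟨_, List.mem_range.mpr (hidx y).1, ?_⟩⟩)
        simp only [labelN, (hidx x).2, (hidx y).2]
      have e := hword _ hm
      rw [prodW_powWord, prodW_cons, prodW_cons, prodW_nil, mul_one, hf _ (hidx x).1, hf _ (hidx y).1] at e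
      exact e
    have hsq : ∀ x, f x * f x = 1 := fun x => by
      have := hpair x x
      rwa [coxLabel_self, pow_one] at this
    rintro r (⟨x, -, y, -, rfl⟩ | hr)
    · simp only [map_pow, map_mul, FreeGroup.lift_apply_of]
      exact hpair x y
    · obtain ⟨k, hk, rfl⟩ := List.getElem_of_mem (Set.mem_ofPred_eq ▸ hr : r ∈ Fi22.extra)
      have hlen := extraWords.length_eq
      have h2 := (List.forall₂_iff_get.mp extraWords).2 k hk (by omega)
      simp only [List.get_eq_getElem] at h2
      rw [h2 _ f hsq]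
      exact hword _ (List.mem_append_right _ (List.getElem_mem _))
  let ψ : Fi22 →* Fi22 := PresentedGroup.toGroup hrels
  have hgen : ∀ k < 9, ψ (gen k) = tr (pt k) := fun k hk => by
    rw [← hf k hk, gen, presGen, genOf_of_lt (show k < letters.length from hk),
      genOf_of_lt (show k < letters.length from hk)]
    exact PresentedGroup.toGroup.of hrels
  have hinj : Function.Injective ψ := by
    have hs : IsSimpleGroup Fi22 := isFi22.1
    rw [← MonoidHom.ker_eq_bot_iff]
    refine (inferInstance : ψ.ker.Normal).eq_bot_or_eq_top.resolve_right fun e => ?_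
    have h0 : ψ (gen 0) = 1 := MonoidHom.mem_ker.mp (e ▸ Subgroup.mem_top _)
    rw [hgen 0 (by norm_num), tr, conjAt] at h0
    have h1 := congrArg (fun u => coreRep certA gen (pt 0) * u * (coreRep certA gen (pt 0))⁻¹) h0
    simp [mul_assoc, first_facts.2] at h1
  let φ : Fi22 ≃* Fi22 := MulEquiv.ofBijective ψ ⟨hinj, Finite.injective_iff_surjective.mp hinj⟩
  refine ⟨φ, ?_, fun k hk => ⟨pt k, hpt k hk, hgen k hk⟩⟩
  have h0 : φ (gen 0) ∈ conjugatesOf (gen 0) := by
    show ψ (gen 0) ∈ _
    rw [hgen 0 (by norm_num)]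
    exact tr_mem _
  ext d
  constructor
  · rintro ⟨u, hu, rfl⟩
    exact (show IsConj (gen 0) (φ (gen 0)) from h0).trans (φ.toMonoidHom.map_isConj hu)
  · intro hd
    refine ⟨φ.symm d, ?_, φ.apply_symm_apply d⟩
    have h1 : IsConj (φ (gen 0)) d := (show IsConj (gen 0) (φ (gen 0)) from h0).symm.trans hd
    have h2 := φ.symm.toMonoidHom.map_isConj h1
    rw [MulEquiv.coe_toMonoidHom, φ.symm_apply_apply] at h2
    exact h2

/-- every diagram is carried to generators, up to the exchange of two arms -/
theorem diag_std {f : ℕ → Pt} (hf : Diag f) : ∃ (φ : Fi22 ≃* Fi22) (sw : Bool),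
    φ '' conjugatesOf (gen 0) = conjugatesOf (gen 0) ∧
      ∀ i < 8, φ (gen (posLetter i)) = tr (f (swapPos sw i)) := by
  obtain ⟨g, L, hL, hg⟩ := orbit_leaf hf
  obtain ⟨φ, himg, hφ⟩ := leaf_aut hL
  refine ⟨φ.trans (MulAut.conj g).symm, L.2.1, ?_, fun i hi => ?_⟩
  · ext d
    constructor
    · rintro ⟨u, hu, rfl⟩
      have h1 : φ u ∈ conjugatesOf (gen 0) := himg ▸ Set.mem_image_of_mem φ hu
      refine (show IsConj (gen 0) (φ u) from h1).trans (isConj_iff.mpr ⟨g⁻¹, ?_⟩)
      simp [MulEquiv.trans_apply]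
    · intro hd
      have h1 : g * d * g⁻¹ ∈ conjugatesOf (gen 0) :=
        (show IsConj (gen 0) d from hd).trans (isConj_iff.mpr ⟨g, rfl⟩)
      rw [← himg] at h1
      obtain ⟨u, hu, hu'⟩ := h1
      refine ⟨u, hu, ?_⟩
      simp [MulEquiv.trans_apply, hu', mul_assoc]
  · have hi9 : posLetter i < 9 := by interval_cases i <;> decide
    have hs : swapPos L.2.1 i < 8 := by
      cases L.2.1 <;> interval_cases i <;> decide
    obtain ⟨x, hx, hx'⟩ := hφ _ hi9
    have h := List.all_eq_true.mp leaves_ok L hL
    simp only [leafOK, Bool.and_eq_true, List.all_eq_true, List.mem_range] at h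
    have e : x = rho g (f (swapPos L.2.1 i)) := Fin.ext (by
      rw [hx, hg _ hs]
      exact Nat.eq_of_beq_eq_true (h.1.2 i hi))
    rw [MulEquiv.trans_apply, hx', e, ← tr_smul]
    simp [mul_assoc]

end CfsgLib.M23
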