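import Cfsg.Agent.Lib.M23.RefImage
import Cfsg.Agent.Lib.M23.Std
import Cfsg.Agent.Lib.M23.Lifts
import Cfsg.Agent.Lib.M23.Letters

/-!
In a group of type M(23): transpositions over the generators of Fi22, nine of them with eight commuting
with a second transposition.
-/

set_option autoImplicit false
set_option maxHeartbeats 800000

namespace CfsgLib.M23

open CfsgLib.CosetEnum Cfsg.Spor

variable {G : Type*} [Group G]

/-- the transpositions other than `d` commuting with `d` -/
abbrev perp (D : Set G) (d : G) : Set G := {y : G | y ∈ D ∧ y ≠ d ∧ Commute d y}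

theorem closure_perp_le (D : Set G) (d : G) :
    Subgroup.closure (perp D d) ≤ Subgroup.centralizer ({d} : Set G) := by
  rw [Subgroup.closure_le]
  intro y hy
  exact Subgroup.mem_centralizer_singleton_iff.2 hy.2.2.eq.symm

theorem perp_conj {D : Set G} (hcl : ∀ g : G, ∀ x ∈ D, g * x * g⁻¹ ∈ D) {d u x : G}
    (hu : u ∈ Subgroup.centralizer ({d} : Set G)) (hx : x ∈ perp D d) : u * x * u⁻¹ ∈ perp D d := by
  have hud : u * d * u⁻¹ = d := by
    rw [Subgroup.mem_centralizer_singleton_iff.1 hu, mul_inv_cancel_right]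
  refine ⟨hcl u x hx.1, fun e => hx.2.1 ?_, ?_⟩
  · exact mul_left_cancel (mul_right_cancel (e.trans hud.symm))
  · rw [← hud]
    exact (Commute.conj_iff u).2 hx.2.2

theorem short_pair {D : Set G} (hS : Cfsg.IsThreeTranspositionSet D) {a b : G} (ha : a ∈ D) (hb : b ∈ D) :
    ShortPair a b := by
  have hsq : ∀ x ∈ D, x * x = 1 := fun x hx => by rw [← pow_two, ← hS.1 x hx, pow_orderOf_eq_one]
  refine ⟨hsq a ha, hsq b hb, ?_⟩
  exact hS.2 a ha b hb

theorem short_sub {H : Subgroup G} {a b : H} (h : ShortPair (a : G) b) : ShortPair a b := by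
  obtain ⟨h1, h2, h3⟩ := h
  refine ⟨Subtype.ext h1, Subtype.ext h2, h3.imp (fun e => Subtype.ext ?_) fun e => Subtype.ext ?_⟩
  · simpa using e
  · simpa using e

variable [Finite G]

/-- transpositions over the generators, all but one of them commuting with `c` -/
theorem exists_lifts {D : Set G} (hD : Cfsg.IsThreeTranspositionGroup D) {d c : G} (hd : d ∈ D) (hc : c ∈ D)
    (hdc : ¬ Commute d c)
    (e : ↥(Subgroup.closure (perp D d)) ⧸ Subgroup.center ↥(Subgroup.closure (perp D d)) ≃* Fi22)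
    (he : e '' ((QuotientGroup.mk : ↥(Subgroup.closure (perp D d)) → _) ''
      {x | (x : G) ∈ perp D d}) = conjugatesOf (Fi22Pres.gen 0))
    {c₃ : ZMod 3} (hc₃ : c₃ ≠ 0)
    (hL : Cfsg.IsProjReflectionGroupModThree
      (↥(Subgroup.closure (perp D d ∩ perp D c)) ⧸ Subgroup.center ↥(Subgroup.closure (perp D d ∩ perp D c)))
      7 (-c₃) c₃) :
    ∃ (e' : ↥(Subgroup.closure (perp D d)) ⧸ Subgroup.center ↥(Subgroup.closure (perp D d)) ≃* Fi22)
      (t : ℕ → ↥(Subgroup.closure (perp D d))),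
      e' '' ((QuotientGroup.mk : ↥(Subgroup.closure (perp D d)) → _) ''
        {x | (x : G) ∈ perp D d}) = conjugatesOf (Fi22Pres.gen 0) ∧
      (∀ k < 9, (t k : G) ∈ perp D d ∧ e' (QuotientGroup.mk (t k)) = Fi22Pres.gen k) ∧
      (∀ k < 9, k ≠ 6 → Commute c (t k : G)) ∧ ¬ Commute c (t 6 : G) := by
  obtain ⟨hS, hcl, -⟩ := hD
  obtain ⟨Q, hQ, hdet, ⟨ψ⟩⟩ := hL
  have hf := refFacts hc₃ (fun x hx => hQ.1 x hx) hdet
  have hLH : (Subgroup.closure (perp D d ∩ perp D c)) ≤ (Subgroup.closure (perp D d)) := Subgroup.closure_mono Set.inter_subset_left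
  have hZ : ∀ (x : (Subgroup.closure (perp D d ∩ perp D c))), (⟨(x : G), hLH x.2⟩ : (Subgroup.closure (perp D d))) ∈ Subgroup.center (Subgroup.closure (perp D d)) → x ∈ Subgroup.center (Subgroup.closure (perp D d ∩ perp D c)) := fun x hx =>
    Subgroup.mem_center_iff.2 fun y => Subtype.ext
      (congrArg Subtype.val (Subgroup.mem_center_iff.1 hx ⟨(y : G), hLH y.2⟩) :)
  set T : Set (↥(Subgroup.closure (perp D d ∩ perp D c)) ⧸ Subgroup.center (Subgroup.closure (perp D d ∩ perp D c))) := QuotientGroup.mk '' {x : (Subgroup.closure (perp D d ∩ perp D c)) | (x : G) ∈ perp D d ∩ perp D c}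
  have hTconj : ∀ u : ↥(Subgroup.closure (perp D d ∩ perp D c)) ⧸ Subgroup.center (Subgroup.closure (perp D d ∩ perp D c)), ∀ x ∈ T, u * x * u⁻¹ ∈ T := by
    intro u x hx
    obtain ⟨v, rfl⟩ := QuotientGroup.mk_surjective u
    obtain ⟨a, ha, rfl⟩ := hx
    exact ⟨v * a * v⁻¹, ⟨perp_conj hcl (closure_perp_le D d (hLH v.2)) ha.1,
      perp_conj hcl (closure_perp_le D c (Subgroup.closure_mono Set.inter_subset_right v.2)) ha.2⟩, by simp⟩
  have hTgen : Subgroup.closure T = ⊤ := by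
    rw [show T = (QuotientGroup.mk' (Subgroup.center (Subgroup.closure (perp D d ∩ perp D c)))) '' {x : (Subgroup.closure (perp D d ∩ perp D c)) | (x : G) ∈ perp D d ∩ perp D c} from rfl,
      ← MonoidHom.map_closure]
    refine eq_top_iff.2 fun q _ => ?_
    obtain ⟨x, rfl⟩ := QuotientGroup.mk_surjective q
    exact ⟨x, by rw [show Subgroup.closure {x : (Subgroup.closure (perp D d ∩ perp D c)) | (x : G) ∈ perp D d ∩ perp D c} = ⊤ from
      Subgroup.closure_closure_coe_preimage]; trivial, rfl⟩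
  have hTsq : ∀ x ∈ T, x * x = 1 := by
    rintro - ⟨a, ha, rfl⟩
    rw [← QuotientGroup.mk_mul, (short_sub (short_pair hS ha.1.1 ha.1.1) : ShortPair a a).1]
    rfl
  have hTthree : ∀ x ∈ T, ∀ y ∈ T, (x * y) ^ 2 = 1 ∨ (x * y) ^ 3 = 1 := by
    rintro - ⟨a, ha, rfl⟩ - ⟨b, hb, rfl⟩
    refine (short_sub (short_pair hS ha.1.1 hb.1.1) : ShortPair a b).2.2.imp (fun h => ?_) fun h => ?_ <;>
      rw [← QuotientGroup.mk_mul, ← QuotientGroup.mk_pow, h] <;> rfl
  obtain ⟨x, hxT, hx⟩ := image_diagram hf ψ hTconj hTgen hTsq hTthree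
  choose a ha hax using hxT
  let aH : Fin 8 → (Subgroup.closure (perp D d)) := fun i => ⟨(a i : G), hLH (a i).2⟩
  have hmem : ∀ i, e (QuotientGroup.mk (aH i)) ∈ conjugatesOf (Fi22Pres.gen 0) := fun i =>
    Set.ext_iff.1 he _ |>.1 ⟨_, ⟨aH i, (ha i).1, rfl⟩, rfl⟩
  choose p hp using fun i => exists_tr (hmem i)
  have hkey : ∀ i j, i ≠ j → p i ≠ p j ∧ (Commute (tr (p i)) (tr (p j)) ↔ adjP i j = false) := by
    intro i j hij
    obtain ⟨hne, hcom⟩ := hx i j hij
    refine ⟨fun h => hne ?_, ?_⟩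
    · rw [← hax i, ← hax j]
      refine mk_eq_of_mem (fun h' => hZ _ h') (e.injective ?_ : QuotientGroup.mk (aH i) = QuotientGroup.mk (aH j))
      rw [← hp, ← hp, h]
    rw [hp, hp, ← hcom, ← hax i, ← hax j]
    constructor
    · intro h
      have h' := h.map e.symm.toMonoidHom
      simp only [MulEquiv.coe_toMonoidHom, e.symm_apply_apply] at h'
      exact mk_commute_of_mem (fun h'' => hZ _ h'') h'
    · intro h
      have h' := commute_of_mk (short_sub (short_pair hS (ha i).1.1 (ha j).1.1)) (by rw [hax, hax]; exact hne) h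
      exact ((show Commute (aH i) (aH j) from Subtype.ext (congrArg Subtype.val h'.eq :)).map
        (QuotientGroup.mk' (Subgroup.center (Subgroup.closure (perp D d))))).map e.toMonoidHom
  let f : ℕ → Pt := fun i => if h : i < 8 then p ⟨i, h⟩ else p 0
  have hdiag : Diag f := by
    intro i hi j hj hne
    obtain ⟨h1, h2⟩ := hkey ⟨i, hi⟩ ⟨j, hj⟩ (fun h => hne (congrArg Fin.val h))
    simp only [f, dif_pos hi, dif_pos hj]
    refine ⟨h1, ?_⟩
    rw [Bool.eq_iff_iff, comB_iff, h2, Bool.not_eq_true']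
  obtain ⟨φ, sw, himg, hφ⟩ := diag_std hdiag
  let e' := e.trans φ.symm
  have he' : e' '' ((QuotientGroup.mk : (Subgroup.closure (perp D d)) → _) '' {x | (x : G) ∈ perp D d}) = conjugatesOf (Fi22Pres.gen 0) := by
    rw [show (e' : _ → Fi22) = φ.symm ∘ e from rfl, Set.image_comp, he]
    conv_lhs => rw [← himg, ← Set.image_comp]
    simp
  have hex : ∀ k < 9, ∃ u : (Subgroup.closure (perp D d)), (u : G) ∈ perp D d ∧ e' (QuotientGroup.mk u) = Fi22Pres.gen k ∧
      (k ≠ 6 → Commute c (u : G)) := by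
    intro k hk
    by_cases h6 : k = 6
    · subst h6
      obtain ⟨-, ⟨u, hu, rfl⟩, hq⟩ := (Set.ext_iff.1 he' (Fi22Pres.gen 6)).2 (gen22_conj 6 hk)
      exact ⟨u, hu, hq, fun h => absurd rfl h⟩
    obtain ⟨i, hi, rfl⟩ : ∃ i < 8, posLetter i = k :=
      (by decide +kernel : ∀ k < 9, k ≠ 6 → ∃ i < 8, posLetter i = k) k hk h6
    have hs : swapPos sw i < 8 := (by decide +kernel : ∀ b, ∀ i < 8, swapPos b i < 8) sw i hi
    refine ⟨aH ⟨_, hs⟩, (ha _).1, ?_, fun _ => (ha ⟨_, hs⟩).2.2.2⟩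
    have h := hφ i hi
    simp only [f, dif_pos hs, hp] at h
    show φ.symm (e _) = _
    rw [← h, φ.symm_apply_apply]
  choose! t ht using hex
  refine ⟨e', t, he', fun k hk => ⟨(ht k hk).1, (ht k hk).2.1⟩, fun k hk h6 => (ht k hk).2.2 h6, fun h => ?_⟩
  have hct : ∀ k < 9, (t k : G) ∈ (Subgroup.closure (perp D d ∩ perp D c)) := fun k hk => by
    refine Subgroup.subset_closure ⟨(ht k hk).1, (ht k hk).1.1, fun e => hdc (e ▸ (ht k hk).1.2.2), ?_⟩
    by_cases h6 : k = 6
    · rw [h6]; exact h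
    · exact (ht k hk).2.2 h6
  let ι : (Subgroup.closure (perp D d ∩ perp D c)) →* Fi22 := (e'.toMonoidHom.comp (QuotientGroup.mk' _)).comp (Subgroup.inclusion hLH)
  have hsurj : Function.Surjective ι := by
    rw [← MonoidHom.range_eq_top, eq_top_iff, ← Fi22Pres.setupA.gen_top, Subgroup.closure_le]
    rintro - ⟨k, hk, rfl⟩
    exact ⟨⟨_, hct k hk⟩, (ht k hk).2.1⟩
  have hker : ι.ker = Subgroup.center (Subgroup.closure (perp D d ∩ perp D c)) := by
    refine le_antisymm (fun y hy => hZ y ?_) fun y hy => ?_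
    · rw [MonoidHom.mem_ker] at hy
      exact (QuotientGroup.eq_one_iff _).1 ((EmbeddingLike.map_eq_one_iff (f := e')).1 hy)
    · have hcen : ι y ∈ Subgroup.center Fi22 := Subgroup.mem_center_iff.2 fun z => by
        obtain ⟨z', rfl⟩ := hsurj z
        rw [← map_mul, ← map_mul, Subgroup.mem_center_iff.1 hy z']
      haveI : IsSimpleGroup Fi22 := Fi22Pres.isFi22.1
      rcases Subgroup.Normal.eq_bot_or_eq_top (H := Subgroup.center Fi22) inferInstance with hb | hb
      · rwa [hb, Subgroup.mem_bot, ← MonoidHom.mem_ker] at hcen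
      · exfalso
        have h1 : Fi22Pres.gen 1 ∈ Subgroup.center Fi22 := hb ▸ Subgroup.mem_top _
        have := (gen22_commute (k := 0) (l := 1) (by norm_num) (by norm_num) (by norm_num)).1
          (Subgroup.mem_center_iff.1 h1 _)
        revert this; decide +kernel
  have hcard := card_image ψ
  rw [Nat.card_congr (((QuotientGroup.quotientMulEquivOfEq hker.symm).trans
    (QuotientGroup.quotientKerEquivOfSurjective ι hsurj))).toEquiv, Fi22Pres.card_faithful.1] at hcard
  exact hcard (by norm_num)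

end CfsgLib.M23
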