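import Cfsg.Agent.Lib.Fi23Pres.TransClass
import Cfsg.Agent.Lib.M23.Clique
import Cfsg.Agent.Lib.M23.Side
import Cfsg.Prelude.Def_CaseTheorems

/-!
The transpositions of the presented group Fi23: centralizers, and the width.
-/

set_option autoImplicit false
set_option maxHeartbeats 800000

namespace CfsgLib.M23

open CfsgLib.CosetEnum Cfsg.Spor

local notation "C0" => Fi23Pres.coverZ
local notation "S0" => perp Fi23Pres.transClass Fi23Pres.coverZ

theorem coverZ_mem_class : C0 ∈ Fi23Pres.transClass := mem_conjugatesOf_self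

theorem class_conj {g x : Fi23} (hx : x ∈ Fi23Pres.transClass) : g * x * g⁻¹ ∈ Fi23Pres.transClass :=
  (show IsConj Fi23Pres.central x from hx).trans (isConj_iff.2 ⟨g, rfl⟩)

theorem gen23_rel {k l : ℕ} (hk : k < 10) (hl : l < 10) : (Fi23Pres.gen k * Fi23Pres.gen l) ^ lab k l = 1 := by
  rw [lab, Fi23Pres.gen, presGen, genOf_of_lt (show k < Fi23Pres.letters.length from hk),
    genOf_of_lt (show l < Fi23Pres.letters.length from hl),
    List.getD_eq_getElem _ _ (show k < Fi23Pres.letters.length from hk),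
    List.getD_eq_getElem _ _ (show l < Fi23Pres.letters.length from hl)]
  exact of_pair (extra := Fi23.extra) (Fi23Pres.nodes _) (Fi23Pres.nodes _)

theorem gen23_class : ∀ k < 9, Fi23Pres.gen k ∈ Fi23Pres.transClass := by
  have step : ∀ k l, k < 10 → l < 10 → lab k l = 3 →
      Fi23Pres.gen k ∈ Fi23Pres.transClass → Fi23Pres.gen l ∈ Fi23Pres.transClass := fun k l hk hl e h => by
    have := gen23_rel hk hl
    rw [e] at this
    rw [← braid_conj (Fi23Pres.gen_sq k) (Fi23Pres.gen_sq l) this]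
    exact class_conj h
  have h1 : Fi23Pres.gen 1 ∈ Fi23Pres.transClass := by
    refine (show IsConj Fi23Pres.central (Fi23Pres.gen 1) from ?_)
    refine isConj_iff.2 ⟨(prodW Fi23Pres.gen halfWord)⁻¹, ?_⟩
    show (prodW Fi23Pres.gen halfWord)⁻¹ * C0 * ((prodW Fi23Pres.gen halfWord)⁻¹)⁻¹ = _
    rw [coverZ_eq]
    group
  have h0 := step 1 0 (by norm_num) (by norm_num) (by decide +kernel) h1
  have h2 := step 1 2 (by norm_num) (by norm_num) (by decide +kernel) h1
  have h3 := step 2 3 (by norm_num) (by norm_num) (by decide +kernel) h2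
  have h4 := step 3 4 (by norm_num) (by norm_num) (by decide +kernel) h3
  have h5 := step 4 5 (by norm_num) (by norm_num) (by decide +kernel) h4
  have h6 := step 5 6 (by norm_num) (by norm_num) (by decide +kernel) h5
  have h7 := step 3 7 (by norm_num) (by norm_num) (by decide +kernel) h3
  have h8 := step 7 8 (by norm_num) (by norm_num) (by decide +kernel) h7
  intro k hk
  interval_cases k <;> assumption
where
  coverZ_eq : C0 = prodW Fi23Pres.gen halfWord * Fi23Pres.gen 1 * (prodW Fi23Pres.gen halfWord)⁻¹ := by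
    rw [Fi23Pres.coverZ, central_word.1, prodW_append, prodW_cons, prodW_reverse Fi23Pres.gen_sq, mul_assoc]

/-- the quotient of the centralizer onto Fi22 -/
noncomputable def toFi22 : Fi23Pres.subA →* Fi22 :=
  Fi23Pres.coverEquiv.symm.toMonoidHom.comp (QuotientGroup.mk' Fi23Pres.zKer)

theorem toFi22_gen {k : ℕ} (hk : k < 9) :
    toFi22 ⟨Fi23Pres.gen k, Fi23Pres.gen_mem hk⟩ = Fi22Pres.gen k := by
  apply Fi23Pres.coverEquiv.injective
  simp only [toFi22, MonoidHom.coe_comp, Function.comp_apply, MulEquiv.coe_toMonoidHom,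
    MulEquiv.apply_symm_apply, QuotientGroup.mk'_apply]
  rw [Fi22Pres.gen, presGen, genOf_of_lt (show k < Fi22Pres.letters.length from hk)]
  show _ = Fi23Pres.coverMap (PresentedGroup.of Fi22Pres.letters[k])
  have hl : k < Fi22Pres.letters.length := hk
  have e : List.idxOf (Fi22Pres.letters[k]'hl) Fi22Pres.letters = k := List.Nodup.idxOf_getElem (by decide) k hl
  rw [Fi23Pres.coverMap, PresentedGroup.toGroup.of]
  show _ = Fi23Pres.coverGen (List.idxOf (Fi22Pres.letters[k]'hl) Fi22Pres.letters)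
  rw [e, Fi23Pres.coverGen, dif_pos hk]

theorem toFi22_surjective : Function.Surjective toFi22 :=
  Fi23Pres.coverEquiv.symm.surjective.comp (QuotientGroup.mk'_surjective _)

theorem toFi22_mk {x y : Fi23Pres.subA} :
    toFi22 x = toFi22 y ↔ (QuotientGroup.mk x : Fi23Pres.subA ⧸ Fi23Pres.zKer) = QuotientGroup.mk y :=
  Fi23Pres.coverEquiv.symm.injective.eq_iff

theorem gen_perp {k : ℕ} (hk : k < 9) : Fi23Pres.gen k ∈ S0 := by
  refine ⟨gen23_class k hk, fun e => ?_, (Fi23Pres.coverZ_comm _ (Fi23Pres.gen_mem hk)).symm⟩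
  have h1 : toFi22 ⟨Fi23Pres.gen k, Fi23Pres.gen_mem hk⟩ = 1 := by
    rw [← map_one toFi22, toFi22_mk]
    refine (QuotientGroup.eq_one_iff _).2 ?_
    rw [show (⟨Fi23Pres.gen k, Fi23Pres.gen_mem hk⟩ : Fi23Pres.subA) = Fi23Pres.zSub from Subtype.ext e]
    exact Subgroup.mem_zpowers _
  rw [toFi22_gen hk] at h1
  exact Fi22Pres.first_facts.2 (isConj_one_left.1 (h1 ▸ gen22_conj k hk))

theorem perp_mem {a : Fi23} (ha : a ∈ S0) : a ∈ Fi23Pres.subA := by
  rw [← Fi23Pres.centralizer_central]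
  exact Subgroup.mem_centralizer_singleton_iff.2 ha.2.2.eq.symm

theorem closure_perp : Subgroup.closure S0 = Fi23Pres.subA := by
  refine le_antisymm ((Subgroup.closure_le _).2 fun a ha => perp_mem ha) ?_
  rw [Fi23Pres.subA, Subgroup.closure_le]
  rintro - ⟨w, hw, rfl⟩
  have hs : Fi23Pres.certA.subs = [[0], [1], [2], [3], [4], [5], [6], [7], [8]] := rfl
  rw [hs] at hw
  obtain ⟨g, hg, rfl⟩ : ∃ g < 9, w = [g] := by
    simp only [List.mem_cons, List.not_mem_nil, or_false] at hw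
    rcases hw with rfl | rfl | rfl | rfl | rfl | rfl | rfl | rfl | rfl <;> exact ⟨_, by norm_num, rfl⟩
  rw [prodW_cons, prodW_nil, mul_one]
  exact Subgroup.subset_closure (gen_perp hg)

theorem perp_conj_sub {a : Fi23} (ha : a ∈ S0) :
    ∃ u ∈ Fi23Pres.subA, u * Fi23Pres.gen 0 * u⁻¹ = a := by
  have key : ∀ b ∈ S0, ∃ h ∈ Fi23Pres.subA,
      h * conjAt Fi23Pres.certA Fi23Pres.gen Fi23Pres.central 53 * h⁻¹ = b := by
    intro b hb
    obtain ⟨x, hx⟩ := Fi23Pres.mem_transClass.mp hb.1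
    have h := (Fi23Pres.graph.mask x).mpr (hx.symm ▸ hb.2.2)
    rw [Fi23Pres.commMask, Nat.testBit_or, Bool.or_eq_true] at h
    have hx0 : Fi23Pres.subMask0.testBit x = true := h.resolve_left fun e => hb.2.1 (by
      rw [← hx, show x = Fi23Pres.setupA.base from Fin.ext (Nat.testBit_one_eq_true_iff_self_eq_zero.1 e),
        Fi23Pres.setupA.conjAt_base]
      rfl)
    obtain ⟨u, hu, e⟩ := (Fi23Pres.setupA.orbit_mem_iff Fi23Pres.subMask0_orbit x).mpr hx0
    refine ⟨u, hu, ?_⟩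
    rw [← hx, ← e, ← Fi23Pres.setupA.conjAt_smul Fi23Pres.comm_central]
  obtain ⟨u, hu, e⟩ := key a ha
  obtain ⟨v, hv, e'⟩ := key _ (gen_perp (k := 0) (by norm_num))
  refine ⟨u * v⁻¹, mul_mem hu (inv_mem hv), ?_⟩
  rw [← e', ← e]
  group

theorem toFi22_perp {a : Fi23} (ha : a ∈ S0) : toFi22 ⟨a, perp_mem ha⟩ ∈ conjugatesOf (Fi22Pres.gen 0) := by
  obtain ⟨u, hu, e⟩ := perp_conj_sub ha
  refine (isConj_iff.2 ⟨toFi22 ⟨u, hu⟩, ?_⟩ : IsConj (Fi22Pres.gen 0) _)
  rw [← toFi22_gen (k := 0) (by norm_num), ← map_inv, ← map_mul, ← map_mul]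
  exact congrArg toFi22 (Subtype.ext e)

theorem perp_short {a b : Fi23} (ha : a ∈ S0) (hb : b ∈ S0) :
    ShortPair (⟨a, perp_mem ha⟩ : Fi23Pres.subA) ⟨b, perp_mem hb⟩ :=
  short_sub (short_pair Fi23Pres.transClass_three.1 ha.1 hb.1)

theorem subA_center_le : Fi23Pres.zKer ≤ Subgroup.center Fi23Pres.subA := Fi23Pres.center_eq.ge

theorem perp_eq {a b : Fi23} (ha : a ∈ S0) (hb : b ∈ S0)
    (h : toFi22 ⟨a, perp_mem ha⟩ = toFi22 ⟨b, perp_mem hb⟩) : a = b := by
  obtain ⟨g, hg⟩ := isConj_iff.1 (show IsConj (Fi22Pres.gen 0) (toFi22 ⟨a, perp_mem ha⟩) from toFi22_perp ha)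
  obtain ⟨u, rfl⟩ := toFi22_surjective g
  have hs : ((u * ⟨Fi23Pres.gen 1, Fi23Pres.gen_mem (by norm_num)⟩ * u⁻¹ : Fi23Pres.subA) : Fi23) ∈ S0 :=
    perp_conj (fun g x hx => class_conj hx) (Fi23Pres.centralizer_central.symm ▸ u.2) (gen_perp (k := 1) (by norm_num))
  refine congrArg Subtype.val (eq_of_mk subA_center_le (perp_short ha hb) (perp_short hs ha) (perp_short hs hb)
    (toFi22_mk.1 h) fun hc => ?_)
  have h1 := hc.map Fi23Pres.coverEquiv.symm.toMonoidHom
  replace h1 : Commute (toFi22 (u * ⟨Fi23Pres.gen 1, Fi23Pres.gen_mem (by norm_num)⟩ * u⁻¹))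
      (toFi22 ⟨a, perp_mem ha⟩) := h1
  rw [map_mul, map_mul, map_inv, toFi22_gen (by norm_num), ← hg, Commute.conj_iff,
    gen22_commute (by norm_num) (by norm_num) (by norm_num)] at h1
  revert h1; decide +kernel

theorem exists_perp_of_tr (x : Pt) : ∃ a, ∃ ha : a ∈ S0, toFi22 ⟨a, perp_mem ha⟩ = tr x := by
  obtain ⟨g, hg⟩ := isConj_iff.1 (show IsConj (Fi22Pres.gen 0) (tr x) from tr_mem x)
  obtain ⟨u, rfl⟩ := toFi22_surjective g
  have ha : ((u * ⟨Fi23Pres.gen 0, Fi23Pres.gen_mem (by norm_num)⟩ * u⁻¹ : Fi23Pres.subA) : Fi23) ∈ S0 :=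
    perp_conj (fun g x hx => class_conj hx) (Fi23Pres.centralizer_central.symm ▸ u.2) (gen_perp (k := 0) (by norm_num))
  refine ⟨_, ha, ?_⟩
  rw [← hg, ← toFi22_gen (k := 0) (by norm_num), ← map_inv, ← map_mul, ← map_mul]

theorem clique23_le (E : Finset Fi23) (hE : ↑E ⊆ Fi23Pres.transClass)
    (hc : ∀ a ∈ E, ∀ b ∈ E, Commute a b) : E.card ≤ 23 := by
  classical
  rcases E.eq_empty_or_nonempty with rfl | ⟨x, hx⟩
  · simp
  obtain ⟨g, hg⟩ := isConj_iff.1 (show IsConj Fi23Pres.central x from hE hx)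
  set E' := E.image fun a => g⁻¹ * a * g
  have hcard : E'.card = E.card := Finset.card_image_of_injective _ fun a b h => by simpa using h
  have hE' : ∀ a ∈ E', a ∈ Fi23Pres.transClass ∧ Commute C0 a ∧ ∀ b ∈ E', Commute a b := by
    intro a ha
    obtain ⟨a, ha', rfl⟩ := Finset.mem_image.1 ha
    refine ⟨by simpa using class_conj (g := g⁻¹) (hE ha'), ?_, fun b hb => ?_⟩
    · refine (Commute.conj_iff g).1 ?_
      rw [show g * C0 * g⁻¹ = x from hg, show g * (g⁻¹ * a * g) * g⁻¹ = a by group]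
      exact hc x hx a ha'
    · obtain ⟨b, hb', rfl⟩ := Finset.mem_image.1 hb
      refine (Commute.conj_iff g).1 ?_
      rw [show g * (g⁻¹ * a * g) * g⁻¹ = a by group, show g * (g⁻¹ * b * g) * g⁻¹ = b by group]
      exact hc a ha' b hb'
  have hperp : ∀ a ∈ E'.erase C0, a ∈ S0 := fun a ha =>
    ⟨(hE' a (Finset.mem_of_mem_erase ha)).1, Finset.ne_of_mem_erase ha, (hE' a (Finset.mem_of_mem_erase ha)).2.1⟩
  choose pt hpt using fun (a : E'.erase C0) => exists_tr (toFi22_perp (hperp a a.2))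
  have hinj : Function.Injective pt := fun a b h => Subtype.ext (perp_eq (hperp a a.2) (hperp b b.2) (by
    rw [← hpt, ← hpt, h]))
  have hle : (Finset.univ.image pt).card ≤ 22 := clique_le _ fun p hp q hq => by
    obtain ⟨a, -, rfl⟩ := Finset.mem_image.1 hp
    obtain ⟨b, -, rfl⟩ := Finset.mem_image.1 hq
    rw [hpt, hpt]
    exact (show Commute (⟨a, perp_mem (hperp a a.2)⟩ : Fi23Pres.subA) ⟨b, perp_mem (hperp b b.2)⟩ from
      Subtype.ext ((hE' a (Finset.mem_of_mem_erase a.2)).2.2 b (Finset.mem_of_mem_erase b.2)).eq).map toFi22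
  rw [Finset.card_image_of_injective _ hinj, Finset.card_univ, Fintype.card_coe] at hle
  have h1 := Finset.pred_card_le_card_erase (s := E') (a := C0)
  omega

theorem clique23_exists : ∃ E : Finset Fi23, ↑E ⊆ Fi23Pres.transClass ∧
    (∀ a ∈ E, ∀ b ∈ E, Commute a b) ∧ E.card = 23 := by
  classical
  obtain ⟨S, hS, hScomm⟩ := clique_exists
  choose a ha htr using exists_perp_of_tr
  have hinj : Function.Injective a := fun x y h => tr_inj (by
    rw [← htr x, ← htr y]; exact congrArg toFi22 (Subtype.ext h))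
  have hcomm : ∀ x ∈ S, ∀ y ∈ S, Commute (a x) (a y) := by
    intro x hx y hy
    rcases eq_or_ne x y with rfl | hne
    · exact Commute.refl _
    refine congrArg Subtype.val (commute_of_mk (Z := Fi23Pres.zKer) (perp_short (ha x) (ha y)) ?_ ?_).eq
    · intro h
      have h' := toFi22_mk.2 h
      rw [htr, htr] at h'
      exact hne (tr_inj h')
    · have h1 := hScomm x hx y hy
      rw [← htr x, ← htr y] at h1
      have h2 := h1.map Fi23Pres.coverEquiv.toMonoidHom
      simpa only [toFi22, MonoidHom.coe_comp, Function.comp_apply, MulEquiv.coe_toMonoidHom,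
        MulEquiv.apply_symm_apply, QuotientGroup.mk'_apply] using h2
  refine ⟨insert C0 (S.image a), ?_, ?_, ?_⟩
  · intro x hx
    rcases Finset.mem_insert.1 hx with e | hx
    · rw [e]; exact coverZ_mem_class
    · obtain ⟨y, -, rfl⟩ := Finset.mem_image.1 hx
      exact (ha y).1
  · intro x hx y hy
    rcases Finset.mem_insert.1 hx with e | hx <;> rcases Finset.mem_insert.1 hy with e' | hy
    · rw [e, e']
    · obtain ⟨q, -, rfl⟩ := Finset.mem_image.1 hy
      rw [e]; exact (ha q).2.2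
    · obtain ⟨q, -, rfl⟩ := Finset.mem_image.1 hx
      rw [e']; exact (ha q).2.2.symm
    · obtain ⟨q, hq, rfl⟩ := Finset.mem_image.1 hx
      obtain ⟨r, hr, rfl⟩ := Finset.mem_image.1 hy
      exact hcomm q hq r hr
  · rw [Finset.card_insert_of_notMem, Finset.card_image_of_injective _ hinj, hS]
    intro h
    obtain ⟨q, -, e⟩ := Finset.mem_image.1 h
    exact (ha q).2.1 e

theorem width23 : Cfsg.commutingWidth Fi23Pres.transClass = 23 := by
  refine le_antisymm (csSup_le ?_ ?_) (le_csSup ?_ ?_)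
  · exact ⟨0, ∅, Set.empty_subset _, Set.finite_empty, by simp, Set.ncard_empty _⟩
  · rintro n ⟨E, hE, hfin, hc, rfl⟩
    rw [Set.ncard_eq_toFinset_card _ hfin]
    exact clique23_le _ (fun a ha => hE (hfin.mem_toFinset.1 ha))
      fun a ha b hb => hc a (hfin.mem_toFinset.1 ha) b (hfin.mem_toFinset.1 hb)
  · refine ⟨23, ?_⟩
    rintro n ⟨E, hE, hfin, hc, rfl⟩
    rw [Set.ncard_eq_toFinset_card _ hfin]
    exact clique23_le _ (fun a ha => hE (hfin.mem_toFinset.1 ha))
      fun a ha b hb => hc a (hfin.mem_toFinset.1 ha) b (hfin.mem_toFinset.1 hb)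
  · obtain ⟨E, hE, hc, hcard⟩ := clique23_exists
    exact ⟨↑E, hE, E.finite_toSet, hc, by rw [Set.ncard_coe_finset, hcard]⟩

theorem subA_perfect : Group.IsPerfect Fi23Pres.subA := by
  haveI : IsSimpleGroup Fi22 := Fi22Pres.isFi22.1
  refine ⟨?_⟩
  set L := commutator Fi23Pres.subA
  have hnonab : commutator Fi22 = ⊤ := by
    refine ((inferInstance : (commutator Fi22).Normal).eq_bot_or_eq_top).resolve_left fun h => ?_
    have h1 : Commute (Fi22Pres.gen 0) (Fi22Pres.gen 1) :=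
      commutatorElement_eq_one_iff_commute.1 (Subgroup.mem_bot.1 (h ▸ Subgroup.commutator_mem_commutator
        (Subgroup.mem_top _) (Subgroup.mem_top _)))
    rw [gen22_commute (by norm_num) (by norm_num) (by norm_num)] at h1
    revert h1; decide +kernel
  have hmap : L.map toFi22 = ⊤ := by
    rw [← hnonab]
    simp only [L, commutator_def, Subgroup.map_commutator, ← MonoidHom.range_eq_map,
      MonoidHom.range_eq_top.2 toFi22_surjective]
  by_contra hne
  refine Fi23Pres.no_complement L (Subgroup.isComplement'_of_disjoint_and_mul_eq_univ ?_ ?_)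
  · rw [disjoint_iff, eq_bot_iff]
    intro x hx
    rw [Fi23Pres.center_eq] at hx
    rw [Subgroup.mem_bot]
    obtain ⟨k, hk⟩ := Subgroup.mem_zpowers_iff.1 hx.1
    rcases Int.even_or_odd' k with ⟨j, rfl | rfl⟩
    · rw [← hk, zpow_mul, zpow_two, show Fi23Pres.zSub * Fi23Pres.zSub = 1 from Subtype.ext Fi23Pres.coverZ_sq,
        one_zpow]
    · exfalso
      have hzx : x = Fi23Pres.zSub := by
        rw [← hk, zpow_add_one, zpow_mul, zpow_two,
          show Fi23Pres.zSub * Fi23Pres.zSub = 1 from Subtype.ext Fi23Pres.coverZ_sq, one_zpow, one_mul]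
      refine hne (eq_top_iff.2 fun y _ => ?_)
      obtain ⟨l, hl, e⟩ := (hmap ▸ Subgroup.mem_top (toFi22 y) : toFi22 y ∈ L.map toFi22)
      have h1 := QuotientGroup.eq.1 (toFi22_mk.1 e)
      have h3 : Fi23Pres.zKer ≤ L := by
        rw [Fi23Pres.zKer, Subgroup.zpowers_le]
        exact hzx ▸ hx.2
      have := mul_mem hl (h3 h1)
      rwa [mul_inv_cancel_left] at this
  · ext y
    simp only [Set.mem_univ, iff_true]
    obtain ⟨l, hl, e⟩ := (hmap ▸ Subgroup.mem_top (toFi22 y) : toFi22 y ∈ L.map toFi22)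
    refine ⟨l⁻¹ * y, Fi23Pres.center_eq ▸ QuotientGroup.eq.1 (toFi22_mk.1 e), l, hl, ?_⟩
    show l⁻¹ * y * l = y
    have hz := Subgroup.mem_center_iff.1 (subA_center_le (QuotientGroup.eq.1 (toFi22_mk.1 e))) l
    rw [← hz, mul_inv_cancel_left]

theorem subA_simple_quot : IsSimpleGroup (Fi23Pres.subA ⧸ Subgroup.center Fi23Pres.subA) := by
  haveI : IsSimpleGroup Fi22 := Fi22Pres.isFi22.1
  obtain ⟨-, ⟨q⟩, -⟩ := Fi23Pres.subA_cover
  haveI : Nontrivial (Fi23Pres.subA ⧸ Subgroup.center Fi23Pres.subA) := q.toEquiv.nontrivial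
  exact IsSimpleGroup.isSimpleGroup_of_surjective q.symm.toMonoidHom q.symm.surjective

theorem perp_structure : Subgroup.closure S0 = Subgroup.centralizer ({C0} : Set Fi23) ∧
    Cfsg.IsQuasisimple ↥(Subgroup.closure S0) ∧
    Subgroup.center ↥(Subgroup.closure S0) = (Subgroup.zpowers C0).subgroupOf (Subgroup.closure S0) := by
  rw [closure_perp]
  refine ⟨Fi23Pres.centralizer_central.symm, ⟨subA_perfect, subA_simple_quot⟩, ?_⟩
  rw [Fi23Pres.center_eq]
  refine Subgroup.map_injective Fi23Pres.subA.subtype_injective ?_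
  rw [Fi23Pres.zKer, MonoidHom.map_zpowers,
    Subgroup.map_subgroupOf_eq_of_le (Subgroup.zpowers_le.2 Fi23Pres.coverZ_mem)]
  rfl

end CfsgLib.M23
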