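import Cfsg.Agent.Lib.M23.CheckMasks
import Cfsg.Agent.Lib.M23.CheckNodes

/-!
Orbits of the group Fi22 on diagrams of eight transpositions with three arms of lengths three, two, two.
-/

set_option autoImplicit false

namespace CfsgLib.M23

open CfsgLib.CosetEnum CfsgLib.Fi22Pres Cfsg.Spor

theorem Diag.smul {f : ℕ → Pt} (h : Diag f) (g : Fi22) : Diag fun i => rho g (f i) := by
  intro i hi j hj hne
  obtain ⟨h1, h2⟩ := h i hi j hj hne
  refine ⟨fun e => h1 ((rho g).injective e), ?_⟩
  rw [← h2, Bool.eq_iff_iff, comB_iff, comB_iff, ← tr_smul, ← tr_smul]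
  exact comB_iff.commute_mulAut_conj g _ _

theorem root_ok : nodeData.any (fun m => m.1 == [0]) = true := by decide +kernel

theorem maskOf_spec {x : ℕ} (h : maskData.any (fun e => Nat.beq e.1 x) = true) (y : Pt) :
    (maskOf x).testBit y = comB x y := by
  obtain ⟨e, he, hx⟩ := List.any_eq_true.mp h
  have key : ∀ l : List (ℕ × ℕ), (∀ e ∈ l, maskTest e = true) → (∃ e ∈ l, e.1 = x) →
      ((l.lookup x).getD 0).testBit y = comB x y := by
    intro l hl
    induction l with
    | nil => simp
    | cons a l ih =>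
      intro hex
      obtain ⟨a, m⟩ := a
      rw [List.lookup_cons]
      by_cases ha : x = a
      · subst ha
        simp only [beq_self_eq_true, Option.getD_some]
        have h1 := hl _ List.mem_cons_self
        rw [maskTest, Bool.and_eq_true] at h1
        have h2 := allUp_spec h1.1 y (Nat.zero_le _) (lt_of_lt_of_le y.2 (by simpa using hN))
        rw [show Nat.blt y 3510 = true by rw [Nat.blt_eq]; exact y.2, Bool.not_true, Bool.false_or,
          beq_iff_eq] at h2
        exact h2
      · rw [show (x == a) = false by simpa using ha]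
        refine ih (fun e he => hl e (List.mem_cons_of_mem _ he)) ?_
        obtain ⟨e, he, rfl⟩ := hex
        rcases List.mem_cons.mp he with rfl | he
        · exact absurd rfl ha
        · exact ⟨e, he, rfl⟩
  exact key maskData (List.all_eq_true.mp masks_ok) ⟨e, he, Nat.eq_of_beq_eq_true hx⟩

theorem cand_spec {P : List ℕ} (hP : ∀ p ∈ P, p < 3510 ∧ maskData.any (fun e => Nat.beq e.1 p) = true)
    {y : Pt} (h : ∀ i < P.length, P.getD i 0 ≠ (y : ℕ) ∧ comB (P.getD i 0) y = !adjP i P.length) :
    (candMask P).testBit y = true := by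
  have hall : allMask.testBit y = true := by
    rw [allMask, Nat.testBit_two_pow_sub_one]
    exact decide_eq_true y.2
  have key : ∀ l : List ℕ, (∀ i ∈ l, i < P.length) → ∀ acc : ℕ, acc.testBit y = true →
      (l.foldl (fun acc i => acc &&& bif adjP i P.length then allMask ^^^ maskOf (P.getD i 0)
        else maskOf (P.getD i 0) ^^^ 2 ^ P.getD i 0) acc).testBit y = true := by
    intro l
    induction l with
    | nil => exact fun _ acc h => h
    | cons i l ih =>
      intro hl acc hacc
      refine ih (fun j hj => hl j (List.mem_cons_of_mem _ hj)) _ ?_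
      have hi := hl i List.mem_cons_self
      obtain ⟨h1, h2⟩ := h i hi
      have hm := maskOf_spec (hP (P.getD i 0) (by rw [List.getD_eq_getElem _ _ hi]; exact List.getElem_mem hi)).2 y
      rw [Nat.testBit_and, hacc, Bool.true_and]
      cases ha : adjP i P.length
      · rw [ha] at h2
        rw [cond_false, Nat.testBit_xor, hm, h2, Nat.testBit_two_pow]
        rw [decide_eq_false h1]; rfl
      · rw [ha] at h2
        rw [cond_true, Nat.testBit_xor, hm, h2, hall]
        rfl
  exact key _ (fun i hi => List.mem_range.mp hi) _ hall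

/-- a point carried to the root by an element fixing the earlier points -/
def Reach (P : List ℕ) (r y : ℕ) : Prop :=
  ∃ x : Pt, (x : ℕ) = y ∧ ∃ g : Fi22, (rho g x : ℕ) = r ∧ ∀ q : Pt, (q : ℕ) ∈ P → rho g q = q

theorem scan_spec {P : List ℕ} {r : ℕ}
    (hP : ∀ p ∈ P, p < 3510 ∧ maskData.any (fun e => Nat.beq e.1 p) = true) :
    ∀ (l : List ℕ) (seen : ℕ), (∀ y, seen.testBit y = true → Reach P r y) → scanB P l seen = true →
      ∀ e ∈ l, Reach P r (ptE e)
  | [], _, _, _ => by simp
  | e :: l, seen, hs, h => by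
    change (strict e fun e => seen.testBit (parE e) && Nat.blt (ptE e) 3510 && Nat.blt (movE e) 3510 &&
        P.all (fun p => (maskOf p).testBit (movE e)) && Nat.beq (actPt (movE e) (parE e)) (ptE e) &&
        strict (2 ^ ptE e ||| seen) (scanB P l)) = true at h
    simp only [strict_eq, Bool.and_eq_true, List.all_eq_true, Nat.blt_eq] at h
    obtain ⟨⟨⟨⟨⟨hp, hx⟩, hz⟩, hcom⟩, hact⟩, hrest⟩ := h
    have hxr : Reach P r (ptE e) := by
      obtain ⟨u, hu, g, hg, hfix⟩ := hs _ hp
      set z : Pt := ⟨_, hz⟩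
      have hmove : rho (tr z) u = ⟨_, hx⟩ := Fin.ext (by
        rw [actPt_eq, hu]
        exact Nat.eq_of_beq_eq_true hact)
      refine ⟨⟨_, hx⟩, rfl, g * (tr z)⁻¹, ?_, fun q hq => ?_⟩
      · rw [map_mul, map_inv, Equiv.Perm.mul_apply, ← hmove, Equiv.Perm.inv_def, Equiv.symm_apply_apply]
        exact hg
      · have hc : Commute (tr q) (tr z) := (comB_iff q z).mp (by
          rw [← maskOf_spec (hP q hq).2 z]
          exact hcom q hq)
        have e : rho (tr z) q = q := tr_inj (by
          rw [← tr_smul, hc.symm.eq, mul_inv_cancel_right])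
        rw [map_mul, map_inv, Equiv.Perm.mul_apply, Equiv.Perm.inv_def]
        conv_lhs => rw [← e, Equiv.symm_apply_apply]
        exact hfix q hq
    intro e' he'
    rcases List.mem_cons.mp he' with rfl | he'
    · exact hxr
    · refine scan_spec hP l _ (fun y hy => ?_) hrest e' he'
      rw [Nat.testBit_or, Bool.or_eq_true, Nat.testBit_two_pow, decide_eq_true_eq] at hy
      rcases hy with rfl | hy
      exacts [hxr, hs y hy]

theorem orbit_spec {P : List ℕ} {b : List (List ℕ)}
    (hP : ∀ p ∈ P, p < 3510 ∧ maskData.any (fun e => Nat.beq e.1 p) = true) (h : orbitOK P b = true) :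
    ∀ e ∈ b.flatten, Reach P (rootOf b) (ptE e) := by
  simp only [orbitOK, Bool.and_eq_true, Bool.not_eq_true', Nat.blt_eq] at h
  obtain ⟨⟨hne, hr⟩, hscan⟩ := h
  have hbase : Reach P (rootOf b) (rootOf b) := ⟨⟨_, hr⟩, rfl, 1, by simp, fun q _ => by simp⟩
  have hall := scan_spec (r := rootOf b) hP _ _ (fun y hy => by
    rw [Nat.testBit_two_pow, decide_eq_true_eq] at hy
    exact hy ▸ hbase) hscan
  cases hfl : b.flatten with
  | nil => simp [hfl] at hne
  | cons a l =>
    intro e he
    rcases List.mem_cons.mp he with rfl | he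
    · rwa [show ptE e = rootOf b by rw [rootOf, hfl]; rfl]
    · exact hall e (by rw [hfl]; exact he)

theorem listed_spec {L : List (List (List ℕ))} {y : ℕ} (h : (listed L).testBit y = true) :
    ∃ b ∈ L, ∃ e ∈ b.flatten, ptE e = y := by
  have key : ∀ (l : List ℕ) (acc : ℕ),
      (List.rec (motive := fun _ => ℕ → ℕ) (fun acc => acc)
        (fun e _ ih acc => strict (2 ^ ptE e ||| acc) fun a => ih a) l acc).testBit y = true →
      acc.testBit y = true ∨ ∃ e ∈ l, ptE e = y := by
    intro l
    induction l with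
    | nil => exact fun _ h => Or.inl h
    | cons a l ih =>
      intro acc h
      dsimp only at h
      rw [strict_eq] at h
      rcases ih _ h with h | ⟨e, he, he'⟩
      · rw [Nat.testBit_or, Bool.or_eq_true, Nat.testBit_two_pow, decide_eq_true_eq] at h
        rcases h with h | h
        exacts [Or.inr ⟨a, List.mem_cons_self, h⟩, Or.inl h]
      · exact Or.inr ⟨e, List.mem_cons_of_mem _ he, he'⟩
  induction L with
  | nil => simp [listed] at h
  | cons b L ih =>
    rw [listed, List.foldr_cons, ← listed, Nat.testBit_or, Bool.or_eq_true] at h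
    rcases h with h | h
    · rcases key _ 0 h with h | h
      · simp at h
      · exact ⟨b, List.mem_cons_self, h⟩
    · obtain ⟨b', hb', h'⟩ := ih h
      exact ⟨b', List.mem_cons_of_mem _ hb', h'⟩

theorem orbit_walk {f : ℕ → Pt} (hf : Diag f) : ∀ k < 7, ∃ g : Fi22, ∃ n ∈ nodeData,
    n.1.length = k + 1 ∧ ∀ i ≤ k, (rho g (f i) : ℕ) = n.1.getD i 0 := by
  intro k
  induction k with
  | zero =>
    intro _
    obtain ⟨g, hg⟩ := to_base (f 0)
    obtain ⟨n, hn, hn'⟩ := List.any_eq_true.mp root_ok
    rw [beq_iff_eq] at hn'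
    refine ⟨g, n, hn, by rw [hn']; rfl, fun i hi => ?_⟩
    obtain rfl : i = 0 := by omega
    rw [hg, hn']
    rfl
  | succ k ih =>
    intro hk
    obtain ⟨g, n, hn, hlen, hg⟩ := ih (by omega)
    obtain ⟨b, hb, g', hg', hroot⟩ := node_step hf hn g (by omega) (fun i hi => hg i (by omega))
    have hc := List.all_eq_true.mp (List.all_eq_true.mp children_ok n hn) b hb
    rw [show Nat.blt (n.1.length + 1) 8 = true by rw [Nat.blt_eq]; omega, cond_true] at hc
    obtain ⟨m, hm, hm'⟩ := List.any_eq_true.mp hc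
    rw [beq_iff_eq] at hm'
    refine ⟨g', m, hm, by rw [hm', List.length_append, hlen]; rfl, fun i hi => ?_⟩
    rw [hm']
    rcases Nat.lt_or_ge i (k + 1) with h | h
    · rw [List.getD_append _ _ _ _ (by omega), hg' i (by omega)]
    · obtain rfl : i = k + 1 := by omega
      rw [List.getD_append_right _ _ _ _ (by omega), hlen, Nat.sub_self]
      rw [hlen] at hroot
      exact hroot
where
  node_step {f : ℕ → Pt} (hf : Diag f) {n : List ℕ × List (List (List ℕ))} (hn : n ∈ nodeData) (g : Fi22)
      (hlen : n.1.length < 8) (hg : ∀ i < n.1.length, (rho g (f i) : ℕ) = n.1.getD i 0) :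
      ∃ b ∈ n.2, ∃ g' : Fi22, (∀ i < n.1.length, (rho g' (f i) : ℕ) = n.1.getD i 0) ∧
        (rho g' (f n.1.length) : ℕ) = rootOf b := by
    have hok := List.all_eq_true.mp nodes_ok n hn
    simp only [nodeOK, Bool.and_eq_true, List.all_eq_true, Nat.blt_eq] at hok
    obtain ⟨⟨hP, hcov⟩, horb⟩ := hok
    set y := rho g (f n.1.length)
    have hd := hf.smul g
    have hy : (candMask n.1).testBit y = true := cand_spec hP fun i hi => by
      obtain ⟨h1, h2⟩ := hd i (by omega) n.1.length hlen (by omega)
      rw [hg i hi] at h2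
      exact ⟨fun e => h1 (Fin.ext ((hg i hi).trans e)), h2⟩
    rw [← Nat.eq_of_beq_eq_true hcov, Nat.testBit_and, Bool.and_eq_true] at hy
    obtain ⟨b, hb, e, he, hby⟩ := listed_spec hy.2
    obtain ⟨x, hx, h, hh, hfix⟩ := orbit_spec hP (horb b hb) e he
    obtain rfl : x = y := Fin.ext (hx.trans hby)
    refine ⟨b, hb, h * g, fun j hj => ?_, ?_⟩
    · rw [map_mul, Equiv.Perm.mul_apply, hfix _ (by
        rw [hg j hj, List.getD_eq_getElem _ _ hj]; exact List.getElem_mem hj), hg j hj]
    · rw [map_mul, Equiv.Perm.mul_apply]; exact hh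

/-- every diagram is carried to a listed one -/
theorem orbit_leaf {f : ℕ → Pt} (hf : Diag f) : ∃ g : Fi22, ∃ L ∈ leafData,
    ∀ i < 8, (rho g (f i) : ℕ) = L.1.getD i 0 := by
  obtain ⟨g, n, hn, hlen, hg⟩ := orbit_walk hf 6 (by norm_num)
  obtain ⟨b, hb, g', hg', hroot⟩ := orbit_walk.node_step hf hn g (by omega) (fun i hi => hg i (by omega))
  have hc := List.all_eq_true.mp (List.all_eq_true.mp children_ok n hn) b hb
  rw [show Nat.blt (n.1.length + 1) 8 = false by
    simp [Bool.eq_false_iff, Nat.blt_eq]; omega, cond_false] at hc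
  obtain ⟨m, hm, hm'⟩ := List.any_eq_true.mp hc
  rw [beq_iff_eq] at hm'
  refine ⟨g', m, hm, fun i hi => ?_⟩
  rw [hm']
  rcases Nat.lt_or_ge i 7 with h | h
  · rw [List.getD_append _ _ _ _ (by omega), hg' i (by omega)]
  · obtain rfl : i = 7 := by omega
    rw [List.getD_append_right _ _ _ _ (by omega), hlen, Nat.sub_self]
    rw [hlen] at hroot
    exact hroot

end CfsgLib.M23
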