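import Cfsg.Agent.Lib.M23.OrbitDefs

/-! Kernel check of the orbit data. -/

set_option autoImplicit false

namespace CfsgLib.M23

theorem masks_ok : maskData.all maskTest = true := by decide +kernel

end CfsgLib.M23
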