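import Cfsg.Agent.Lib.M23.Invol
import Cfsg.Prelude.Def_FischerSpaces

/-!
Orthogonal frames of forms over the field of three elements with given discriminant.
-/

set_option autoImplicit false

namespace CfsgLib.M23

open Matrix Cfsg CfsgLib.Orth CfsgLib.Fischer

section General

variable {ι : Type} [Fintype ι] [DecidableEq ι] {Q : QuadraticForm (ZMod 3) (ι → ZMod 3)}

local notation "B" => QuadraticMap.polar (DFunLike.coe Q)

/-- no radical inside a subspace -/
def NdgOn (Q : QuadraticForm (ZMod 3) (ι → ZMod 3)) (W : Submodule (ZMod 3) (ι → ZMod 3)) : Prop :=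
  ∀ x ∈ W, (∀ y ∈ W, QuadraticMap.polar (DFunLike.coe Q) x y = 0) → x = 0

theorem cut {W : Submodule (ZMod 3) (ι → ZMod 3)} (hW : NdgOn Q W) {u : ι → ZMod 3} (hu : u ∈ W)
    (hu0 : Q u ≠ 0) :
    ∃ W', NdgOn Q W' ∧ (∀ y, y ∈ W' ↔ y ∈ W ∧ B u y = 0) ∧
      Module.finrank (ZMod 3) W = Module.finrank (ZMod 3) W' + 1 := by
  set S := Submodule.span (ZMod 3) ({u} : Set (ι → ZMod 3)) with hS
  set W' := W ⊓ orth Q S
  have hmem : ∀ y, y ∈ W' ↔ y ∈ W ∧ B u y = 0 := fun y => by
    simp only [W', hS, Submodule.mem_inf, mem_orth_span, Set.mem_singleton_iff, forall_eq]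
  have hBu : B u u ≠ 0 := by rw [b_self]; exact mul_ne_zero two_ne hu0
  have hcoef : ∀ y, B u (y - (B u y * B u u) • u) = 0 := fun y => by
    rw [b_sub_right, b_smul_right]
    linear_combination -(B u y) * sq_three _ hBu
  refine ⟨W', fun x hx h => hW x ((hmem x).1 hx).1 fun y hy => ?_, hmem, ?_⟩
  · have h' := h _ ((hmem (y - (B u y * B u u) • u)).2 ⟨sub_mem hy (Submodule.smul_mem _ _ hu), hcoef y⟩)
    rwa [b_sub_right, b_smul_right, b_comm x u, ((hmem x).1 hx).2, mul_zero, sub_zero] at h'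
  have hsup : W' ⊔ S = W := by
    refine le_antisymm (sup_le inf_le_left ?_) fun y hy => ?_
    · rw [hS, Submodule.span_singleton_le_iff_mem]; exact hu
    · have e : y = (y - (B u y * B u u) • u) + (B u y * B u u) • u := (sub_add_cancel _ _).symm
      rw [e]
      exact Submodule.add_mem_sup ((hmem _).2 ⟨sub_mem hy (Submodule.smul_mem _ _ hu), hcoef y⟩)
        (Submodule.smul_mem _ _ (Submodule.mem_span_singleton_self u))
  have hinf : W' ⊓ S = ⊥ := (Submodule.eq_bot_iff _).2 fun x hx => by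
    obtain ⟨a, rfl⟩ := Submodule.mem_span_singleton.1 hx.2
    have h := ((hmem _).1 hx.1).2
    rw [b_smul_right] at h
    rw [(mul_eq_zero.1 h).resolve_right hBu, zero_smul]
  have h := Submodule.finrank_sup_add_finrank_inf_eq W' S
  rw [hsup, hinf, finrank_bot, add_zero, hS,
    finrank_span_singleton (fun e => hu0 (by rw [e, QuadraticMap.map_zero]))] at h
  exact h

theorem exists_norm_two {W : Submodule (ZMod 3) (ι → ZMod 3)} (hW : NdgOn Q W)
    (h2 : 2 ≤ Module.finrank (ZMod 3) W) {q : ZMod 3} (hq : q ≠ 0) : ∃ w ∈ W, Q w = q := by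
  obtain ⟨u, hu, hu0⟩ := exists_aniso hW (fun e => by rw [e, finrank_bot] at h2; omega)
  obtain ⟨W', hW', hmem, hfr⟩ := cut hW hu hu0
  obtain ⟨w, hw, hw0⟩ := exists_aniso hW' (fun e => by rw [e, finrank_bot] at hfr; omega)
  obtain ⟨hwW, huw⟩ := (hmem w).1 hw
  rcases three_cases (Q u) (Q w) q hu0 hw0 hq with h | h | h
  · exact ⟨u, hu, h⟩
  · exact ⟨w, hwW, h⟩
  · exact ⟨u + w, add_mem hu hwW, by rw [q_add, huw, add_zero, h]⟩
where
  three_cases : ∀ a b q : ZMod 3, a ≠ 0 → b ≠ 0 → q ≠ 0 → a = q ∨ b = q ∨ a + b = q := by decide +kernel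

theorem exists_frame {c : ZMod 3} (hc : c ≠ 0) : ∀ (k : ℕ) (W : Submodule (ZMod 3) (ι → ZMod 3)),
    NdgOn Q W → Module.finrank (ZMod 3) W = k + 1 →
    ∃ e : Fin (k + 1) → ι → ZMod 3, (∀ i, e i ∈ W) ∧ (∀ i j, i ≠ j → B (e i) (e j) = 0) ∧
      (∀ i, i ≠ Fin.last k → Q (e i) = c) ∧ Q (e (Fin.last k)) ≠ 0 := by
  intro k
  induction k with
  | zero =>
    intro W hW h1
    obtain ⟨u, hu, hu0⟩ := exists_aniso hW (fun e => by rw [e, finrank_bot] at h1; omega)
    exact ⟨fun _ => u, fun _ => hu, fun i j h => absurd (Fin.ext (by omega)) h,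
      fun i h => absurd (Fin.ext (by omega)) h, hu0⟩
  | succ k ih =>
    intro W hW h1
    obtain ⟨u, hu, huc⟩ := exists_norm_two hW (by omega) hc
    obtain ⟨W', hW', hmem, hfr⟩ := cut hW hu (huc ▸ hc)
    obtain ⟨e, he, hperp, hnorm, hlast⟩ := ih W' hW' (by omega)
    refine ⟨Fin.cons u e, ?_, ?_, ?_, ?_⟩
    · intro i
      induction i using Fin.cases with
      | zero => simpa using hu
      | succ i => simpa using ((hmem _).1 (he i)).1
    · intro i j hij
      induction i using Fin.cases with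
      | zero =>
        induction j using Fin.cases with
        | zero => exact absurd rfl hij
        | succ j => simpa using ((hmem _).1 (he j)).2
      | succ i =>
        induction j using Fin.cases with
        | zero => rw [b_comm]; simpa using ((hmem _).1 (he i)).2
        | succ j => simpa using hperp i j (fun e => hij (by rw [e]))
    · intro i hi
      induction i using Fin.cases with
      | zero => simpa using huc
      | succ i => simpa using hnorm i (fun e => hi (by rw [e, Fin.succ_last]))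
    · rw [← Fin.succ_last]; simpa using hlast

end General

variable {Q : QuadraticForm (ZMod 3) (Fin 7 → ZMod 3)}

local notation "B" => QuadraticMap.polar (DFunLike.coe Q)

theorem seven_arith : ∀ x c q : ZMod 3, c ≠ 0 → q ≠ 0 →
    x * (-c) * x = (2 * c) * (2 * c) * (2 * c) * (2 * c) * (2 * c) * (2 * c) * (2 * q) → q = c := by
  decide +kernel

/-- coordinates with respect to an orthogonal frame -/
theorem frame_coords {c : ZMod 3} (hc : c ≠ 0) (hB : Nondeg Q) (hdet : Cfsg.polarGramDet (⇑Q) = -c) :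
    ∃ lin : (Fin 7 → ZMod 3) ≃ₗ[ZMod 3] (Fin 7 → ZMod 3),
      ∀ p p', B (lin p) (lin p') = 2 * c * (p ⬝ᵥ p') := by
  obtain ⟨e, -, hperp, hnorm, hlast⟩ := exists_frame (Q := Q) hc 6 ⊤
    (fun x _ h => hB x fun y => h y trivial) (by rw [finrank_top, Module.finrank_fin_fun])
  set G := LinearMap.toMatrix₂' (ZMod 3) (QuadraticMap.polarBilin Q) with hG
  have hBG : ∀ u v, B u v = u ⬝ᵥ G *ᵥ v := fun u v => by
    rw [← Matrix.toLinearMap₂'_apply', hG, Matrix.toLinearMap₂'_toMatrix']
    rfl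
  have hGdet : G.det = -c := by
    rw [← hdet]
    refine congrArg Matrix.det (Matrix.ext fun i j => ?_)
    rw [hG, LinearMap.toMatrix₂'_apply]
    rfl
  set E : Matrix (Fin 7) (Fin 7) (ZMod 3) := Matrix.of e
  have hgram : E * G * Eᵀ = Matrix.diagonal fun i => B (e i) (e i) := by
    ext i j
    rw [Matrix.mul_assoc, Matrix.diagonal_apply]
    have h : (E * (G * Eᵀ)) i j = B (e i) (e j) := by
      rw [hBG]; simp only [E, Matrix.mul_apply, dotProduct, Matrix.mulVec, Matrix.of_apply, Matrix.transpose_apply]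
    rw [h]
    split
    · next h => rw [h]
    · next h => exact hperp i j h
  have hd := congrArg Matrix.det hgram
  rw [Matrix.det_mul, Matrix.det_mul, Matrix.det_transpose, hGdet, Matrix.det_diagonal,
    Fin.prod_univ_seven] at hd
  simp only [b_self] at hd
  rw [hnorm 0 (by decide), hnorm 1 (by decide), hnorm 2 (by decide), hnorm 3 (by decide),
    hnorm 4 (by decide), hnorm 5 (by decide)] at hd
  have hq : Q (e 6) = c := seven_arith _ _ _ hc hlast hd
  have hall : ∀ i, B (e i) (e i) = 2 * c := fun i => by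
    rw [b_self]
    by_cases h : i = Fin.last 6
    · rw [h]; exact congrArg (2 * ·) hq
    · rw [hnorm i h]
  have hEd : Eᵀ.det ≠ 0 := by
    rw [Matrix.det_transpose]
    intro h
    rw [h, zero_mul, zero_mul, hq] at hd
    exact (by decide +kernel : ∀ c : ZMod 3, c ≠ 0 →
      (0 : ZMod 3) ≠ (2 * c) * (2 * c) * (2 * c) * (2 * c) * (2 * c) * (2 * c) * (2 * c)) c hc hd
  let lin := Matrix.toLinearEquiv' Eᵀ ((Matrix.isUnit_iff_isUnit_det _).2 (isUnit_iff_ne_zero.2 hEd)).invertible
  refine ⟨lin, fun p p' => ?_⟩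
  have happ : ∀ q, lin q = Eᵀ *ᵥ q := fun q => rfl
  rw [happ, happ, hBG, Matrix.mulVec_mulVec, Matrix.dotProduct_mulVec, Matrix.vecMul_mulVec, transpose_transpose,
    ← Matrix.mul_assoc, hgram, ← Matrix.dotProduct_mulVec]
  simp only [Matrix.mulVec_diagonal, dotProduct, hall, Finset.mul_sum]
  exact Finset.sum_congr rfl fun i _ => by ring

end CfsgLib.M23
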