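import Cfsg.Agent.Lib.Fischer.OrthThreeStructure

/-!
Involutions of seven-dimensional orthogonal groups over the field of three elements:
those which are not a reflection up to sign have a conjugate at a long distance.
-/

set_option autoImplicit false

namespace CfsgLib.M23

open Matrix Cfsg CfsgLib.Orth CfsgLib.Fischer

variable {ι : Type} [Fintype ι] [DecidableEq ι] {Q : QuadraticForm (ZMod 3) (ι → ZMod 3)}

local notation "B" => QuadraticMap.polar (DFunLike.coe Q)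

/-- acts as a scalar -/
def IsScal (g : Grp Q) : Prop := ∃ ε : ZMod 3, ∀ x, ap g x = ε • x

theorem sq_three : ∀ a : ZMod 3, a ≠ 0 → a * a = 1 := by decide +kernel

theorem two_ne : (2 : ZMod 3) ≠ 0 := by decide +kernel

theorem neg_self_eq {x : ι → ZMod 3} (h : x = -x) : x = 0 := by
  have h2 : (2 : ZMod 3) • x = 0 := by rw [two_smul]; nth_rewrite 2 [h]; rw [add_neg_cancel]
  exact (smul_eq_zero.1 h2).resolve_left two_ne

theorem exists_aniso {W : Submodule (ZMod 3) (ι → ZMod 3)}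
    (hW : ∀ x ∈ W, (∀ y ∈ W, B x y = 0) → x = 0) (h0 : W ≠ ⊥) : ∃ u ∈ W, Q u ≠ 0 := by
  by_contra h
  push Not at h
  refine h0 ((Submodule.eq_bot_iff W).2 fun x hx => hW x hx fun y hy => ?_)
  have e := q_add (Q := Q) x y
  rw [h _ (add_mem hx hy), h x hx, h y hy, zero_add, zero_add] at e
  exact e.symm

theorem exists_norm {W : Submodule (ZMod 3) (ι → ZMod 3)}
    (hW : ∀ x ∈ W, (∀ y ∈ W, B x y = 0) → x = 0) (h3 : 3 ≤ Module.finrank (ZMod 3) W) (q : ZMod 3) :
    ∃ w ∈ W, Q w = q := by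
  obtain ⟨e, he, he0, heq⟩ := exists_singular (Q := Q) (U := W) h3
  obtain ⟨f, hf, hef⟩ : ∃ f ∈ W, B e f ≠ 0 := by
    by_contra h
    push Not at h
    exact he0 (hW e he h)
  refine ⟨(B e f * (q - Q f)) • e + f, add_mem (Submodule.smul_mem _ _ he) hf, ?_⟩
  rw [q_add, q_smul, heq, mul_zero, zero_add, b_smul_left]
  linear_combination (q - Q f) * sq_three _ hef

variable {g : Grp Q}

theorem half_decomp (x : ι → ZMod 3) (hg : g * g = 1) :
    ap g ((2 : ZMod 3) • (x + ap g x)) = (2 : ZMod 3) • (x + ap g x) ∧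
      ap g ((2 : ZMod 3) • (x - ap g x)) = -((2 : ZMod 3) • (x - ap g x)) ∧
      (2 : ZMod 3) • (x + ap g x) + (2 : ZMod 3) • (x - ap g x) = x := by
  have h2 : ap g (ap g x) = x := by rw [← ap_mul, hg, ap_one]
  refine ⟨by rw [ap_smul, ap_add, h2, add_comm], by rw [ap_smul, ap_sub, h2, ← smul_neg, neg_sub], ?_⟩
  rw [← smul_add, show x + ap g x + (x - ap g x) = (2 : ZMod 3) • x by rw [two_smul]; abel, smul_smul,
    show (2 : ZMod 3) * 2 = 1 by decide +kernel, one_smul]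

/-- the vectors turned round -/
def negSpace (g : Grp Q) : Submodule (ZMod 3) (ι → ZMod 3) where
  carrier := {x | ap g x = -x}
  add_mem' {a b} ha hb := by
    show ap g (a + b) = -(a + b)
    rw [ap_add, show ap g a = -a from ha, show ap g b = -b from hb, neg_add]
  zero_mem' := by
    show ap g 0 = -0
    rw [neg_zero, show (0 : ι → ZMod 3) = (0 : ZMod 3) • 0 by simp, ap_smul, zero_smul]
    simp
  smul_mem' a x hx := by
    show ap g (a • x) = -(a • x)
    rw [ap_smul, show ap g x = -x from hx, smul_neg]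

theorem mem_negSpace {x : ι → ZMod 3} : x ∈ negSpace g ↔ ap g x = -x := Iff.rfl

theorem orth_neg {u w : ι → ZMod 3} (hu : u ∈ negSpace g) (hw : w ∈ fixSpace g) : B u w = 0 := by
  have h := ap_b g u w
  rw [mem_negSpace.1 hu, mem_fixSpace.1 hw, ← neg_one_smul (ZMod 3) u, b_smul_left] at h
  revert h
  generalize B u w = b
  revert b; decide +kernel

theorem nondeg_parts (hB : Nondeg Q) (hg : g * g = 1) :
    (∀ x ∈ fixSpace g, (∀ y ∈ fixSpace g, B x y = 0) → x = 0) ∧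
      (∀ x ∈ negSpace g, (∀ y ∈ negSpace g, B x y = 0) → x = 0) := by
  constructor <;> intro x hx h <;> refine hB x fun z => ?_ <;>
    obtain ⟨h1, h2, h3⟩ := half_decomp z hg <;> rw [← h3, b_add_right]
  · rw [h _ (mem_fixSpace.2 h1), b_comm, orth_neg (mem_negSpace.2 h2) hx, zero_add]
  · rw [h _ (mem_negSpace.2 h2), orth_neg hx (mem_fixSpace.2 h1), zero_add]

theorem finrank_parts (hg : g * g = 1) :
    Module.finrank (ZMod 3) (fixSpace g) + Module.finrank (ZMod 3) (negSpace g) =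
      Module.finrank (ZMod 3) (ι → ZMod 3) := by
  have hinf : fixSpace g ⊓ negSpace g = ⊥ := (Submodule.eq_bot_iff _).2 fun x hx =>
    neg_self_eq ((mem_fixSpace.1 hx.1).symm.trans (mem_negSpace.1 hx.2))
  have hsup : fixSpace g ⊔ negSpace g = ⊤ := eq_top_iff.2 fun x _ => by
    obtain ⟨h1, h2, h3⟩ := half_decomp x hg
    rw [← h3]
    exact Submodule.add_mem_sup (mem_fixSpace.2 h1) (mem_negSpace.2 h2)
  have h := Submodule.finrank_sup_add_finrank_inf_eq (fixSpace g) (negSpace g)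
  rw [hinf, hsup, finrank_bot, add_zero, finrank_top] at h
  exact h.symm

theorem refl_of_line (hB : Nondeg Q) (hg : g * g = 1) (h1 : Module.finrank (ZMod 3) (negSpace g) = 1) :
    ∃ v, Q v ≠ 0 ∧ IsRefl v g := by
  obtain ⟨v, hv, hv0⟩ := exists_aniso (nondeg_parts hB hg).2 (fun e => by rw [e, finrank_bot] at h1; omega)
  obtain ⟨r, hr⟩ := exists_refl hB hv0
  refine ⟨v, hv0, ?_⟩
  suffices g = r by rw [this]; exact hr
  have hvne : v ≠ 0 := fun e => hv0 (by rw [e, QuadraticMap.map_zero])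
  refine ext_ap fun x => ?_
  obtain ⟨e1, e2, e3⟩ := half_decomp x hg
  obtain ⟨a, ha⟩ := exists_smul_eq_of_finrank_one h1 hvne hv (mem_negSpace.2 e2)
  rw [← e3, ap_add, ap_add, e1, refl_fix hr (orth_neg hv (mem_fixSpace.2 e1)), ← ha, ap_smul,
    mem_negSpace.1 hv, ap_smul, refl_self hr]
where
  exists_smul_eq_of_finrank_one {W : Submodule (ZMod 3) (ι → ZMod 3)} (h : Module.finrank (ZMod 3) W = 1)
      {v y : ι → ZMod 3} (hv0 : v ≠ 0) (hv : v ∈ W) (hy : y ∈ W) : ∃ a : ZMod 3, a • v = y := by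
    obtain ⟨a, ha⟩ := (finrank_eq_one_iff_of_nonzero' (⟨v, hv⟩ : W) (fun e => hv0 (congrArg Subtype.val e))).1 h ⟨y, hy⟩
    exact ⟨a, congrArg Subtype.val ha⟩

theorem two_aniso (hB : Nondeg Q) (hg : g * g = 1) (h2 : 2 ≤ Module.finrank (ZMod 3) (negSpace g)) :
    ∃ u₁ ∈ negSpace g, ∃ u₂ ∈ negSpace g, Q u₁ ≠ 0 ∧ Q u₂ ≠ 0 ∧ B u₁ u₂ = 0 := by
  have hn := (nondeg_parts hB hg).2
  obtain ⟨u, hu, hu0⟩ := exists_aniso hn (fun e => by rw [e, finrank_bot] at h2; omega)
  have hBu : B u u ≠ 0 := by rw [b_self]; exact mul_ne_zero two_ne hu0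
  set W := negSpace g ⊓ orth Q (Submodule.span (ZMod 3) ({u} : Set (ι → ZMod 3)))
  have hmem : ∀ y, y ∈ W ↔ y ∈ negSpace g ∧ B u y = 0 := fun y => by
    simp only [W, Submodule.mem_inf, mem_orth_span, Set.mem_singleton_iff, forall_eq]
  have hcoef : ∀ y, B u (y - (B u y * B u u) • u) = 0 := fun y => by
    rw [b_sub_right, b_smul_right]
    linear_combination -(B u y) * sq_three _ hBu
  have hWne : W ≠ ⊥ := fun e => by
    have hle : negSpace g ≤ Submodule.span (ZMod 3) ({u} : Set (ι → ZMod 3)) := fun y hy => by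
      have h : y - (B u y * B u u) • u ∈ W :=
        (hmem _).2 ⟨sub_mem hy (Submodule.smul_mem _ _ hu), hcoef y⟩
      rw [e, Submodule.mem_bot, sub_eq_zero] at h
      rw [h]; exact Submodule.smul_mem _ _ (Submodule.mem_span_singleton_self u)
    have h := Submodule.finrank_mono hle
    rw [finrank_span_singleton (fun e => hu0 (by rw [e, QuadraticMap.map_zero]))] at h
    omega
  obtain ⟨w, hw, hw0⟩ := exists_aniso (W := W) (fun x hx h => hn x ((hmem x).1 hx).1 fun y hy => by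
    have h' := h _ ((hmem (y - (B u y * B u u) • u)).2 ⟨sub_mem hy (Submodule.smul_mem _ _ hu), hcoef y⟩)
    rw [b_sub_right, b_smul_right, b_comm x u, ((hmem x).1 hx).2, mul_zero, sub_zero] at h'
    exact h') hWne
  exact ⟨u, hu, w, ((hmem w).1 hw).1, hu0, hw0, ((hmem w).1 hw).2⟩

theorem conj_far (hB : Nondeg Q) (hg : g * g = 1) (h2 : 2 ≤ Module.finrank (ZMod 3) (negSpace g))
    (h4 : 4 ≤ Module.finrank (ZMod 3) (fixSpace g)) :
    ∃ h : Grp Q, ¬ IsScal (g * (h * g * h⁻¹)) ∧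
      ¬ IsScal ((g * (h * g * h⁻¹)) * (g * (h * g * h⁻¹))) ∧
      ¬ IsScal ((g * (h * g * h⁻¹)) * (g * (h * g * h⁻¹)) * (g * (h * g * h⁻¹))) := by
  obtain ⟨u₁, hu₁, u₂, hu₂, hq₁, hq₂, h12⟩ := two_aniso hB hg h2
  have hP := (nondeg_parts hB hg).1
  obtain ⟨w, hw, hwq⟩ := exists_norm hP (by omega) (Q u₁)
  obtain ⟨s, hs, hs0, hsq⟩ := exists_singular (Q := Q)
      (U := fixSpace g ⊓ orth Q (Submodule.span (ZMod 3) ({w} : Set (ι → ZMod 3)))) (by
    have hw0 : w ≠ 0 := fun e => hq₁ (by rw [← hwq, e, QuadraticMap.map_zero])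
    have h := Submodule.finrank_sup_add_finrank_inf_eq (fixSpace g)
      (orth Q (Submodule.span (ZMod 3) ({w} : Set (ι → ZMod 3))))
    have ho := finrank_orth hB (Submodule.span (ZMod 3) ({w} : Set (ι → ZMod 3)))
    rw [finrank_span_singleton hw0] at ho
    have hle := Submodule.finrank_le (fixSpace g ⊔ orth Q (Submodule.span (ZMod 3) ({w} : Set (ι → ZMod 3))))
    omega)
  obtain ⟨hs, hsw⟩ := Submodule.mem_inf.1 hs
  have hws : B w s = 0 := (mem_orth_span.1 hsw) w rfl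
  have o1w := orth_neg hu₁ hw
  have o1s := orth_neg hu₁ hs
  have o2w := orth_neg hu₂ hw
  have o2s := orth_neg hu₂ hs
  have hbs : B s s = 0 := b_self_zero hsq
  have hqb : Q (u₂ + s) = Q u₂ := by rw [q_add, hsq, o2s, add_zero, add_zero]
  have ha1 : Q (u₁ - w) = 2 * Q u₁ := by rw [q_sub, hwq, o1w]; ring
  have ha3 : Q ((2 : ZMod 3) • u₂ + s) = Q u₂ := by
    rw [q_add, q_smul, hsq, b_smul_left, o2s]; linear_combination Q u₂ * three_eq_zero
  obtain ⟨r₁, hr₁⟩ := exists_refl hB (show Q (u₁ - w) ≠ 0 by rw [ha1]; exact mul_ne_zero two_ne hq₁)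
  obtain ⟨r₂, hr₂⟩ := exists_refl hB (show Q (u₂ + s) ≠ 0 by rw [hqb]; exact hq₂)
  obtain ⟨r₃, hr₃⟩ := exists_refl hB (show Q ((2 : ZMod 3) • u₂ + s) ≠ 0 by rw [ha3]; exact hq₂)
  set h := r₂ * r₃ * r₁
  have f1u1 : ap r₁ u₁ = w := by
    rw [refl_apply_three hr₁, ha1, b_sub_left, b_self, b_comm w u₁, o1w, sub_zero,
      show 2 * Q u₁ * (2 * Q u₁) = 1 from sq_three _ (mul_ne_zero two_ne hq₁), one_smul, sub_sub_cancel]
  have f1w : ap r₁ w = u₁ := by
    rw [← f1u1, ← ap_mul, refl_mul_self hr₁, ap_one]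
  have f1u2 : ap r₁ u₂ = u₂ := refl_fix hr₁ (by rw [b_sub_left, h12, b_comm w u₂, o2w, sub_zero])
  have f1s : ap r₁ s = s := refl_fix hr₁ (by rw [b_sub_left, o1s, hws, sub_zero])
  have f3w : ap r₃ w = w := refl_fix hr₃ (by rw [b_add_left, b_smul_left, o2w, b_comm s w, hws]; ring)
  have f3u1 : ap r₃ u₁ = u₁ :=
    refl_fix hr₃ (by rw [b_add_left, b_smul_left, b_comm u₂ u₁, h12, b_comm s u₁, o1s]; ring)
  have f3s : ap r₃ s = s := refl_fix hr₃ (by rw [b_add_left, b_smul_left, o2s, hbs]; ring)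
  have f3u2 : ap r₃ u₂ = -(u₂ + s) := by
    rw [refl_apply_three hr₃, ha3, b_add_left, b_smul_left, b_self, b_comm s u₂, o2s, add_zero,
      show Q u₂ * (2 * (2 * Q u₂)) = 1 by linear_combination sq_three _ hq₂ + Q u₂ * Q u₂ * three_eq_zero,
      one_smul, two_smul]
    abel
  have f2w : ap r₂ w = w := refl_fix hr₂ (by rw [b_add_left, o2w, b_comm s w, hws, add_zero])
  have f2u1 : ap r₂ u₁ = u₁ := refl_fix hr₂ (by rw [b_add_left, b_comm u₂ u₁, h12, b_comm s u₁, o1s, add_zero])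
  have f2s : ap r₂ s = s := refl_fix hr₂ (by rw [b_add_left, o2s, hbs, add_zero])
  have f2b : ap r₂ (-(u₂ + s)) = u₂ + s := by
    rw [← neg_one_smul (ZMod 3) (u₂ + s), ap_smul, refl_self hr₂, smul_neg, neg_one_smul, neg_neg]
  have hhu2 : ap h u₂ = u₂ + s := by simp only [h, ap_mul, f1u2, f3u2, f2b]
  have hhs : ap h s = s := by simp only [h, ap_mul, f1s, f3s, f2s]
  have hhw : ap h w = u₁ := by simp only [h, ap_mul, f1w, f3u1, f2u1]
  set g' := h * g * h⁻¹
  have conj_ap : ∀ {x y y' z : ι → ZMod 3}, ap h x = y → ap g x = y' → ap h y' = z → ap g' y = z := by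
    intro x y y' z e1 e2 e3
    rw [← e1]
    simp only [g', ap_mul, ap_inv_ap, e2, e3]
  have gu1 : ap g' u₁ = u₁ := conj_ap hhw (mem_fixSpace.1 hw) hhw
  have gs : ap g' s = s := conj_ap hhs (mem_fixSpace.1 hs) hhs
  have gb : ap g' (u₂ + s) = -(u₂ + s) := conj_ap hhu2 (mem_negSpace.1 hu₂) (by
    rw [← neg_one_smul (ZMod 3) u₂, ap_smul, hhu2, neg_one_smul])
  have gu2 : ap g' u₂ = -u₂ + s := by
    have e : u₂ = (u₂ + s) - s := (add_sub_cancel_right u₂ s).symm
    conv_lhs => rw [e, ap_sub, gb, gs]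
    have h3 : s + s + s = 0 := by
      have : (3 : ZMod 3) • s = 0 := by rw [three_eq_zero, zero_smul]
      rw [← this, show (3 : ZMod 3) = 1 + 1 + 1 by decide +kernel, add_smul, add_smul, one_smul]
    calc -(u₂ + s) - s = -u₂ + s - (s + s + s) := by abel
      _ = -u₂ + s := by rw [h3, sub_zero]
  set P := g * g'
  have Pu1 : ap P u₁ = -u₁ := by rw [ap_mul, gu1, mem_negSpace.1 hu₁]
  have Ps : ap P s = s := by rw [ap_mul, gs, mem_fixSpace.1 hs]
  have Pu2 : ap P u₂ = u₂ + s := by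
    rw [ap_mul, gu2, ap_add, mem_fixSpace.1 hs, ← neg_one_smul (ZMod 3) u₂, ap_smul,
      mem_negSpace.1 hu₂, smul_neg, neg_one_smul, neg_neg]
  have hu0 : u₁ ≠ 0 := fun e => hq₁ (by rw [e, QuadraticMap.map_zero])
  have Pneg : ap P (-u₁) = u₁ := by
    rw [← neg_one_smul (ZMod 3) u₁, ap_smul, Pu1, smul_neg, neg_one_smul, neg_neg]
  have key : ∀ R : Grp Q, ap R u₁ = -u₁ → ap R s = s → ¬ IsScal R := by
    rintro R h1 h2 ⟨ε, hε⟩
    rw [hε] at h1 h2
    have e1 : ε = 1 := by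
      by_contra e
      have : (ε - 1) • s = 0 := by rw [sub_smul, h2, one_smul, sub_self]
      exact e (sub_eq_zero.1 ((smul_eq_zero.1 this).resolve_right hs0))
    rw [e1, one_smul] at h1
    exact hu0 (neg_self_eq h1)
  refine ⟨h, key P Pu1 Ps, ?_, key _ (by rw [ap_mul, ap_mul, Pu1, Pneg, Pu1]) (by rw [ap_mul, ap_mul, Ps, Ps, Ps])⟩
  rintro ⟨ε, hε⟩
  have h1 := hε u₁
  rw [ap_mul, Pu1, Pneg] at h1
  have e1 : ε = 1 := by
    by_contra e
    have : (ε - 1) • u₁ = 0 := by rw [sub_smul, ← h1, one_smul, sub_self]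
    exact e (sub_eq_zero.1 ((smul_eq_zero.1 this).resolve_right hu0))
  have h2 := hε u₂
  rw [e1, one_smul, ap_mul, Pu2, ap_add, Pu2, Ps, add_assoc] at h2
  have : s + s = 0 := add_eq_left.1 h2
  rw [← two_smul (ZMod 3)] at this
  exact hs0 ((smul_eq_zero.1 this).resolve_left two_ne)

end CfsgLib.M23
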