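import Cfsg.Agent.Lib.M23.Graph
import Cfsg.Agent.Lib.M23.PatData

/-!
Checks for orbits of the group Fi22 on diagrams of eight transpositions with three arms of lengths three, two, two.
-/

set_option autoImplicit false

namespace CfsgLib.M23

open CfsgLib.CosetEnum CfsgLib.Fi22Pres Cfsg.Spor

/-- joined positions in the diagram -/
def adjP (i j : ℕ) : Bool :=
  [(0, 1), (1, 2), (2, 3), (3, 4), (4, 5), (3, 6), (6, 7)].contains (min i j, max i j)

/-- eight points in the shape of the diagram -/
def Diag (f : ℕ → Pt) : Prop :=
  ∀ i < 8, ∀ j < 8, i ≠ j → f i ≠ f j ∧ comB (f i) (f j) = !adjP i j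

/-- the mask of a point -/
def maskOf (x : ℕ) : ℕ := (maskData.lookup x).getD 0

/-- the points of the graph -/
def allMask : ℕ := 2 ^ 3510 - 1

/-- candidates for the next position -/
def candMask (P : List ℕ) : ℕ :=
  (List.range P.length).foldl (fun acc i => acc &&&
    bif adjP i P.length then allMask ^^^ maskOf (P.getD i 0) else maskOf (P.getD i 0) ^^^ 2 ^ P.getD i 0) allMask

/-- the point of a packed entry -/
def ptE (e : ℕ) : ℕ := e % 4096

/-- the parent of a packed entry -/
def parE (e : ℕ) : ℕ := e / 4096 % 4096

/-- the moving transposition of a packed entry -/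
def movE (e : ℕ) : ℕ := e / 16777216

/-- the root of an orbit -/
def rootOf (b : List (List ℕ)) : ℕ := ptE (b.flatten.headD 0)

/-- the listed points of an orbit -/
noncomputable def listedB (b : List (List ℕ)) : ℕ :=
  List.rec (motive := fun _ => ℕ → ℕ) (fun acc => acc)
    (fun e _ ih acc => strict (2 ^ ptE e ||| acc) fun a => ih a) b.flatten 0

/-- the listed points of a node -/
noncomputable def listed (L : List (List (List ℕ))) : ℕ := L.foldr (fun b acc => listedB b ||| acc) 0

/-- entries each of which is moved from an earlier point -/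
noncomputable def scanB (P : List ℕ) (l : List ℕ) : ℕ → Bool :=
  List.rec (motive := fun _ => ℕ → Bool) (fun _ => true)
    (fun e _ ih seen => strict e fun e =>
      seen.testBit (parE e) && Nat.blt (ptE e) 3510 && Nat.blt (movE e) 3510 &&
        P.all (fun p => (maskOf p).testBit (movE e)) && Nat.beq (actPt (movE e) (parE e)) (ptE e) &&
        strict (2 ^ ptE e ||| seen) ih) l

/-- one orbit list -/
noncomputable def orbitOK (P : List ℕ) (b : List (List ℕ)) : Bool :=
  !b.flatten.isEmpty && Nat.blt (rootOf b) 3510 && scanB P b.flatten.tail (2 ^ rootOf b)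

/-- one node -/
noncomputable def nodeOK (n : List ℕ × List (List (List ℕ))) : Bool :=
  n.1.all (fun p => Nat.blt p 3510 && maskData.any fun e => Nat.beq e.1 p) &&
    Nat.beq (candMask n.1 &&& listed n.2) (candMask n.1) &&
    n.2.all (orbitOK n.1)

/-- the children of the nodes are nodes or leaves -/
def childOK (n : List ℕ × List (List (List ℕ))) : Bool :=
  n.2.all fun b =>     (bif Nat.blt (n.1.length + 1) 8 then nodeData.any (fun m => m.1 == n.1 ++ [rootOf b])
      else leafData.any (fun m => m.1 == n.1 ++ [rootOf b]))

/-- one mask -/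
noncomputable def maskTest (e : ℕ × ℕ) : Bool :=
  allUp (fun y => !(Nat.blt y 3510) || (e.2.testBit y == comB e.1 y)) 12 0 && Nat.blt e.1 3510

end CfsgLib.M23
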