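import Cfsg.Agent.Lib.ThreeTransp.RelationsType

/-!
In a group of type M(23) the quotient of the perp group is a primitive group of 3-transpositions
with central cores.
-/

set_option autoImplicit false

namespace CfsgLib.M23

open Cfsg CfsgLib.ThreeTransp CfsgLib.ThreeTransp.Relations

variable {G : Type*} [Group G] [Finite G] {D : Set G}

/-- a 3-core moves a transposition of the perp into its perp group -/
theorem pCore_three_eq_bot (hD : IsThreeTranspositionClass D) (hZ : Subgroup.center G = ⊥) {d : G}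
    (hd : d ∈ D) (hX : Cfsg.pCore 3 (PerpQuot D d) = ⊥)
    (hne : ∃ x y : ↥(perpGroup D d), ¬ Commute x y) : Cfsg.pCore 3 G = ⊥ := by
  have hS := hD.1
  have hc := class_conjClosed hD
  haveI : Fact (Nat.Prime 3) := ⟨Nat.prime_three⟩
  have hN := Fitting.pCore_normal (G := G) 3
  refine le_bot_iff.mp (hZ ▸ le_center_of_forall hD.2.2 fun x hx e he => ?_)
  by_contra hne'
  obtain ⟨w, hw, u, hu, hwu⟩ := exists_not_commute_in_nbr hne
  have hall : ∀ y ∈ D, ∃ v ∈ D, v ≠ y ∧ y * v ∈ Cfsg.pCore 3 G := by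
    intro y hy
    obtain ⟨g, rfl⟩ := class_exists_conj hD he hy
    refine ⟨g * (x * e * x⁻¹) * g⁻¹, hc g _ (hc x e he), fun h => hne' ?_, ?_⟩
    · have h' : x * e * x⁻¹ = e := by simpa using h
      show e * x = x * e
      calc e * x = x * e * x⁻¹ * x := by rw [h']
        _ = x * e := by group
    · have h1 : e * (x * e * x⁻¹) ∈ Cfsg.pCore 3 G := by
        rw [show e * (x * e * x⁻¹) = e * x * e * x⁻¹ by group]
        nth_rw 2 [← inv_eq_self hS he]
        exact mul_mem (hN.conj_mem x hx e) (inv_mem hx)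
      have h2 := hN.conj_mem _ h1 g
      rwa [show g * (e * (x * e * x⁻¹)) * g⁻¹ = g * e * g⁻¹ * (g * (x * e * x⁻¹) * g⁻¹) by group] at h2
  obtain ⟨v, hv, hvw, hwv⟩ := hall w hw.1
  have hstar := starEq_of_mul_mem (D := D) hS (N := Cfsg.pCore 3 G) (Fitting.pCore_isPGroup 3) hw.1 hv hwv
  have hnc := not_commute_of_starEq hS hv hvw.symm hstar
  have hvd : Commute d v := ((hstar d hd).mp ⟨hw.2.1.symm, hw.2.2.symm⟩).2.symm
  have hdv : v ≠ d := fun e => hnc (e ▸ hw.2.2.symm)
  have hvn : v ∈ nbr D d := ⟨hv, hdv, hvd⟩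
  let z : ↥(perpGroup D d) := ⟨w * v, mul_mem (Subgroup.subset_closure hw) (Subgroup.subset_closure hvn)⟩
  have hmem : proj D d z ∈ Cfsg.pCore 3 (PerpQuot D d) :=
    Fitting.le_pCore ((hN.subgroupOf _).map _ (QuotientGroup.mk'_surjective _))
      (((Fitting.pCore_isPGroup 3).comap_of_injective _ (Subgroup.subtype_injective _)).map _)
      ⟨z, Subgroup.mem_subgroupOf.mpr hwv, rfl⟩
  rw [hX, Subgroup.mem_bot] at hmem
  have hcomm : w * (w * v) = w * v * w :=
    congrArg Subtype.val (Subgroup.mem_center_iff.mp ((QuotientGroup.eq_one_iff _).mp hmem)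
      ⟨w, Subgroup.subset_closure hw⟩)
  exact hnc (mul_left_cancel (a := w) (by rw [hcomm, mul_assoc]))

theorem pCore_le_center_of_quot {A : Type*} [Group A] (p : ℕ) [Fact p.Prime] [Finite A]
    (h : Cfsg.pCore p (A ⧸ Subgroup.center A) = ⊥) : Cfsg.pCore p A ≤ Subgroup.center A := by
  intro x hx
  rw [← QuotientGroup.eq_one_iff, ← Subgroup.mem_bot, ← h]
  exact Fitting.le_pCore ((Fitting.pCore_normal (G := A) p).map _ (QuotientGroup.mk'_surjective _))
    ((Fitting.pCore_isPGroup (G := A) p).map _) ⟨x, hx, rfl⟩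

/-- the hypotheses for recognising the perp quotient -/
theorem perp_hyps (hD : IsThreeTranspositionGroup D) (hprim : IsPrimitiveUnderConj D)
    (hZ : Subgroup.center G = ⊥) {d : G} (hd : d ∈ D) (h : IsOfTypeM22 (PerpQuot D d) (perpImage D d)) :
    IsThreeTranspositionGroup (perpImage D d) ∧ IsThreeTranspositionClass (perpImage D d) ∧
      IsPrimitiveUnderConj (perpImage D d) ∧ Cfsg.pCore 2 (PerpQuot D d) = ⊥ ∧
      Cfsg.pCore 3 (PerpQuot D d) = ⊥ := by
  have hDc := (class_of_primitive hD hprim).1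
  haveI : Fact (Nat.Prime 2) := ⟨Nat.prime_two⟩
  haveI : Fact (Nat.Prime 3) := ⟨Nat.prime_three⟩
  have h2G : Cfsg.pCore 2 G = ⊥ := le_bot_iff.mp (hZ ▸ pCore_two_le_center hD hprim)
  have hsep := sep_of_pCore hD.1 hD.2.1 h2G
  have htype := h
  obtain ⟨hZX, d', hd', c', hc', hdc', ⟨F, iF, iFt, hF, ⟨e⟩⟩, -⟩ := h
  have hne : ∃ x y : ↥(perpGroup D d), ¬ Commute x y := by
    obtain ⟨a, ha, rfl⟩ := hd'
    obtain ⟨b, hb, rfl⟩ := hc'
    exact ⟨a, b, fun hab => hdc' (hab.map (QuotientGroup.mk' _))⟩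
  have hX := perpImage_isClass hDc hprim hsep hd hne
  have h2X := pCore_two_of_typeM22 hX htype
  obtain ⟨K⟩ := CfsgLib.Classical.Herm.exists_conj_of_card (F := F) (q := 2) (by rw [hF]; norm_num)
  haveI : IsSimpleGroup (PSU 6 F 2) := by
    obtain ⟨p, _⟩ := CharP.exists F
    obtain ⟨k, hp, -⟩ := FiniteField.card F p
    have := Fact.mk hp
    exact CfsgLib.Classical.Herm.isSimpleGroup K p (by norm_num) (by norm_num)
  haveI : Nontrivial (PerpQuot (perpImage D d) d') := e.toEquiv.nontrivial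
  haveI : IsSimpleGroup (PerpQuot (perpImage D d) d') :=
    IsSimpleGroup.isSimpleGroup_of_surjective e.symm.toMonoidHom e.symm.surjective
  have hne' : ∃ x y : ↥(perpGroup (perpImage D d) d'), ¬ Commute x y := not_commutative_of_simple_quotient
  have hnab : ∃ x y : PerpQuot (perpImage D d) d', ¬ Commute x y := by
    by_contra! hcomm
    obtain ⟨x, y, hxy⟩ := hne'
    have hcyc : IsCyclic (PerpQuot (perpImage D d) d') :=
      letI : CommGroup (PerpQuot (perpImage D d) d') :=
        { (inferInstance : Group (PerpQuot (perpImage D d) d')) with mul_comm := fun a b => (hcomm a b).eq }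
      IsSimpleGroup.isCyclic
    exact hxy (commutative_of_cyclic_center_quotient (QuotientGroup.mk' _)
      (le_of_eq (QuotientGroup.ker_mk' _)) x y)
  have h3X : Cfsg.pCore 3 (PerpQuot D d) = ⊥ := by
    refine pCore_three_eq_bot hX hZX hd' ?_ hne'
    rcases Subgroup.Normal.eq_bot_or_eq_top (Fitting.pCore_normal (G := PerpQuot (perpImage D d) d') 3) with h' | h'
    · exact h'
    · exfalso
      haveI : Group.IsNilpotent (Cfsg.pCore 3 (PerpQuot (perpImage D d) d')) :=
        (Fitting.pCore_isPGroup (G := PerpQuot (perpImage D d) d') 3).isNilpotent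
      haveI : Group.IsNilpotent (PerpQuot (perpImage D d) d') :=
        Group.nilpotent_of_mulEquiv ((MulEquiv.subgroupCongr h').trans Subgroup.topEquiv)
      obtain ⟨x, y, hxy⟩ := hnab
      exact hxy (IsSimpleGroup.comm_iff_isSolvable.mpr inferInstance x y)
  exact ⟨perpImage_isGroup hDc hsep hd, hX,
    perpQuot_primitive hDc hprim hsep hd hne (pCore_le_center_of_quot 2 h2X) (pCore_le_center_of_quot 3 h3X)
      hd' hne', h2X, h3X⟩

end CfsgLib.M23
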