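import Cfsg.Agent.Lib.M23.Frame
import Cfsg.Agent.Lib.M23.OrbitDefs

/-!
Projective reflection groups in dimension seven over the field of three elements: the classes of
3-transpositions and a diagram of eight of them.
-/

set_option autoImplicit false
set_option maxHeartbeats 1000000

namespace CfsgLib.M23

open Matrix Cfsg CfsgLib.Orth CfsgLib.Fischer

variable {Q : QuadraticForm (ZMod 3) (Fin 7 → ZMod 3)} {c : ZMod 3}

local notation "B" => QuadraticMap.polar (DFunLike.coe Q)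

theorem three_fin : Module.finrank (ZMod 3) (Fin 7 → ZMod 3) = 7 := Module.finrank_fin_fun _

theorem scal_cases {g : Grp Q} (h : IsScal g) : g = 1 ∨ ∀ x, ap g x = -x := by
  obtain ⟨ε, hε⟩ := h
  rcases (by decide +kernel : ∀ a : ZMod 3, a = 0 ∨ a = 1 ∨ a = -1) ε with e | e | e <;> subst e
  · exfalso
    have h1 := hε (ap g⁻¹ (Pi.single 0 1))
    rw [ap_ap_inv, zero_smul] at h1
    have := congrFun h1 0
    simp at this
  · exact Or.inl (ext_ap fun x => by rw [hε, ap_one, one_smul])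
  · exact Or.inr fun x => by rw [hε, neg_one_smul]

theorem scal_comm {g : Grp Q} (h : IsScal g) (a : Grp Q) : a * g = g * a := by
  obtain ⟨ε, hε⟩ := h
  exact ext_ap fun x => by rw [ap_mul, ap_mul, hε, hε, ap_smul]

theorem scal_one : IsScal (1 : Grp Q) := ⟨1, fun x => by rw [ap_one, one_smul]⟩

/-- an element acts as minus the identity -/
def IsNegOne (m : Grp Q) : Prop := ∀ x, ap m x = -x

theorem neg_one_scal {m : Grp Q} (h : IsNegOne m) : IsScal m :=
  ⟨-1, fun x => by rw [h, neg_one_smul]⟩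

theorem sq_scal {g : Grp Q} (h : IsScal (g * g)) : g * g = 1 := by
  refine (scal_cases h).resolve_right fun e => ?_
  have h1 : ((g * g : Grp Q) : GL (Fin 7) (ZMod 3)).val = -1 :=
    Matrix.ext_iff_mulVec.mpr fun y => by rw [Matrix.neg_mulVec, Matrix.one_mulVec]; exact e y
  have h2 := congrArg Matrix.det h1
  rw [Subgroup.coe_mul, Units.val_mul, Matrix.det_mul, Matrix.det_neg, Matrix.det_one, Fintype.card_fin, mul_one] at h2
  exact (by decide +kernel : ∀ a : ZMod 3, a * a ≠ (-1) ^ 7) _ h2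

theorem negSpace_mul {g m : Grp Q} (hm : IsNegOne m) : negSpace (g * m) = fixSpace g := by
  ext x
  rw [mem_negSpace, mem_fixSpace, ap_mul, hm, ← neg_one_smul (ZMod 3) x, ap_smul, neg_one_smul,
    neg_one_smul, neg_inj]

theorem fixSpace_mul {g m : Grp Q} (hm : IsNegOne m) : fixSpace (g * m) = negSpace g := by
  ext x
  rw [mem_negSpace, mem_fixSpace, ap_mul, hm, ← neg_one_smul (ZMod 3) x, ap_smul, neg_one_smul,
    neg_one_smul, neg_eq_iff_eq_neg]

theorem exists_orth_pair (hB : Nondeg Q) (v w : Fin 7 → ZMod 3) : ∃ z, z ≠ 0 ∧ B v z = 0 ∧ B w z = 0 := by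
  have h := finrank_orth_pair hB v w
  have hne : orth Q (Submodule.span (ZMod 3) ({v, w} : Set (Fin 7 → ZMod 3))) ≠ ⊥ := by
    intro e
    rw [e, finrank_bot, three_fin] at h
    omega
  obtain ⟨z, hz, hz0⟩ := Submodule.exists_mem_ne_zero_of_ne_bot hne
  exact ⟨z, hz0, mem_orth_span.1 hz v (Set.mem_insert _ _),
    mem_orth_span.1 hz w (Set.mem_insert_of_mem _ rfl)⟩

theorem refl_scal (hB : Nondeg Q) {v w : Fin 7 → ZMod 3} {r s : Grp Q} (hr : IsRefl v r) (hs : IsRefl w s)
    (h : IsScal (r * s)) : r = s := by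
  obtain ⟨ε, hε⟩ := h
  obtain ⟨z, hz0, hvz, hwz⟩ := exists_orth_pair hB v w
  have h1 := hε z
  rw [ap_mul, refl_fix hs hwz, refl_fix hr hvz] at h1
  have e : ε = 1 := by
    by_contra e
    have : (ε - 1) • z = 0 := by rw [sub_smul, ← h1, one_smul, sub_self]
    exact e (sub_eq_zero.1 ((smul_eq_zero.1 this).resolve_right hz0))
  have h2 : r * s = 1 := ext_ap fun x => by rw [hε, e, one_smul, ap_one]
  rw [mul_eq_one_iff_eq_inv.1 h2, refl_inv hs]

theorem refl_line {v w : Fin 7 → ZMod 3} {r : Grp Q} (hr : IsRefl v r) (h : ap r w = -w) :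
    ∃ a : ZMod 3, w = a • v := by
  rw [refl_apply_three hr] at h
  refine ⟨2 * (Q v * B v w), ?_⟩
  have h2 : (2 : ZMod 3) • w = (Q v * B v w) • v := by
    rw [two_smul]
    linear_combination (norm := module) h
  rw [← smul_smul, ← h2, smul_smul, show (2 : ZMod 3) * 2 = 1 by decide +kernel, one_smul]

theorem refl_not_scal (hB : Nondeg Q) {v : Fin 7 → ZMod 3} {r : Grp Q} (hr : IsRefl v r) (hv : Q v ≠ 0) :
    ¬ IsScal r := by
  intro h
  obtain ⟨z, hz0, hvz, -⟩ := exists_orth_pair hB v v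
  obtain ⟨ε, hε⟩ := h
  have h1 := hε z
  rw [refl_fix hr hvz] at h1
  have h2 := hε v
  rw [refl_self hr] at h2
  have e : ε = 1 := by
    by_contra e
    have : (ε - 1) • z = 0 := by rw [sub_smul, ← h1, one_smul, sub_self]
    exact e (sub_eq_zero.1 ((smul_eq_zero.1 this).resolve_right hz0))
  rw [e, one_smul] at h2
  exact hv (by rw [neg_self_eq h2.symm, QuadraticMap.map_zero])

/-- what is used of the reflection subgroup -/
structure RefFacts (Q : QuadraticForm (ZMod 3) (Fin 7 → ZMod 3)) (c : ZMod 3) : Prop where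
  hc : c ≠ 0
  hB : Nondeg Q
  neg : ∃ m ∈ Cfsg.reflectionSubgroup (⇑Q) c, IsNegOne m
  out : ∀ (v : Fin 7 → ZMod 3) (r : Grp Q), IsRefl v r → Q v = -c → r ∉ Cfsg.reflectionSubgroup (⇑Q) c
  center : ∀ x : ↥(Cfsg.reflectionSubgroup (⇑Q) c),
    x ∈ Subgroup.center ↥(Cfsg.reflectionSubgroup (⇑Q) c) ↔ IsScal (x : Grp Q)
  lin : ∃ lin : (Fin 7 → ZMod 3) ≃ₗ[ZMod 3] (Fin 7 → ZMod 3),
    ∀ p p', QuadraticMap.polar (DFunLike.coe Q) (lin p) (lin p') = 2 * c * (p ⬝ᵥ p')

theorem norm_of_polar {v : Fin 7 → ZMod 3} {a : ZMod 3} (h : B v v = 2 * a) : Q v = a := by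
  rw [b_self] at h
  exact mul_left_cancel₀ two_ne h

theorem refl_mem_ref {v : Fin 7 → ZMod 3} {r : Grp Q} (hc : c ≠ 0) (hr : IsRefl v r) (hv : Q v = c) :
    r ∈ Cfsg.reflectionSubgroup (⇑Q) c :=
  Subgroup.subset_closure ((norm_one_iff hc r).2 ⟨v, hv, hr⟩)

theorem refFacts (hc : c ≠ 0) (hB : Nondeg Q) (hdet : Cfsg.polarGramDet (⇑Q) = -c) : RefFacts Q c := by
  obtain ⟨lin, hlin⟩ := frame_coords hc hB hdet
  set K := Cfsg.reflectionSubgroup (⇑Q) c with hK
  have hn : 5 ≤ Module.finrank (ZMod 3) (Fin 7 → ZMod 3) := by rw [three_fin]; norm_num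
  have hidx := reflectionSubgroup_index hB hn hc
  haveI : K.Normal := Subgroup.normal_of_index_eq_two hidx
  have hunit : ∀ i j : Fin 7, B (lin (Pi.single i 1)) (lin (Pi.single j 1)) = if i = j then 2 * c else 0 := by
    intro i j
    rw [hlin, single_dotProduct, one_mul, Pi.single_apply]
    split <;> simp
  have hneg : ∃ m ∈ K, IsNegOne m := by
    have key : ∀ k ≤ 7, ∃ m ∈ K, ∀ i : Fin 7,
        ap m (lin (Pi.single i 1)) = if (i : ℕ) < k then -lin (Pi.single i 1) else lin (Pi.single i 1) := by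
      intro k
      induction k with
      | zero => exact fun _ => ⟨1, one_mem _, fun i => by simp [ap_one]⟩
      | succ k ih =>
        intro hk
        obtain ⟨m, hm, hmi⟩ := ih (by omega)
        have hv : Q (lin (Pi.single (⟨k, by omega⟩ : Fin 7) 1)) = c :=
          norm_of_polar (by rw [hunit, if_pos rfl])
        obtain ⟨r, hr⟩ := exists_refl hB (by rw [hv]; exact hc)
        refine ⟨r * m, mul_mem (refl_mem_ref hc hr hv) hm, fun i => ?_⟩
        rw [ap_mul, hmi]
        rcases lt_trichotomy (i : ℕ) k with h | h | h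
        · rw [if_pos h, if_pos (by omega), ← neg_one_smul (ZMod 3) (lin _), ap_smul,
            refl_fix hr (by rw [hunit, if_neg]; intro e; rw [← e] at h; simp at h)]
        · have e : i = (⟨k, by omega⟩ : Fin 7) := Fin.ext h
          rw [if_neg (by omega), if_pos (by omega), e, refl_self hr]
        · rw [if_neg (by omega), if_neg (by omega),
            refl_fix hr (by rw [hunit, if_neg]; intro e; rw [← e] at h; simp at h)]
    obtain ⟨m, hm, hmi⟩ := key 7 le_rfl
    refine ⟨m, hm, fun x => ?_⟩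
    have htop : negSpace m = ⊤ := by
      rw [eq_top_iff]
      intro y _
      rw [← lin.apply_symm_apply y, pi_eq_sum_univ' (lin.symm y), map_sum]
      refine Submodule.sum_mem _ fun i _ => ?_
      rw [map_smul]
      refine Submodule.smul_mem _ _ (mem_negSpace.2 ?_)
      rw [hmi, if_pos i.2]
    exact mem_negSpace.1 (htop ▸ Submodule.mem_top)
  refine ⟨hc, hB, hneg, ?_, fun x => ⟨?_, ?_⟩, lin, hlin⟩
  · intro v r hr hv hrK
    have hc' : -c ≠ 0 := neg_ne_zero.2 hc
    have hle : Refl Q ≤ K := by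
      refine (Subgroup.closure_le _).2 fun g hg => ?_
      obtain ⟨w, hw⟩ := hg
      rcases (by decide +kernel : ∀ q a : ZMod 3, q ≠ 0 → a ≠ 0 → q = a ∨ q = -a) (Q w) c hw.1 hc with e | e
      · exact refl_mem_ref hc hw e
      · obtain ⟨-, ⟨d, hd, hD⟩, -⟩ := orth_three_class hB hn hc'
        have h1 : IsConj d (⟨r, refl_mem_ref hc' hr hv⟩ : ↥(Cfsg.reflectionSubgroup (⇑Q) (-c))) :=
          by
          refine (Set.ext_iff.1 hD _).1 ?_
          exact (norm_one_iff hc' r).2 ⟨v, hv, hr⟩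
        have h2 : IsConj d (⟨g, refl_mem_ref hc' hw e⟩ : ↥(Cfsg.reflectionSubgroup (⇑Q) (-c))) :=
          by
          refine (Set.ext_iff.1 hD _).1 ?_
          exact (norm_one_iff hc' g).2 ⟨w, e, hw⟩
        obtain ⟨u, hu⟩ := isConj_iff.1 (h1.symm.trans h2)
        have := congrArg Subtype.val hu
        rw [Subgroup.coe_mul, Subgroup.coe_mul, Subgroup.coe_inv] at this
        simp only at this
        rw [← this]
        exact Subgroup.Normal.conj_mem inferInstance r hrK _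
    rw [refl_eq_top hB (fun h => by rw [three_fin] at h; omega), top_le_iff] at hle
    rw [← hK, hle, Subgroup.index_top] at hidx
    omega
  · intro hx
    rcases commute_El_scalar hB hn (x := (x : Grp Q)) (fun a ha => by
      rw [← omega_eq_El hB hn, ← map_commutator_reflectionSubgroup hB hn hc] at ha
      obtain ⟨y, -, rfl⟩ := ha
      exact congrArg Subtype.val (Subgroup.mem_center_iff.1 hx y)) with e | e
    · rw [e]; exact scal_one
    · refine ⟨-1, fun y => ?_⟩
      rw [neg_one_smul]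
      show _ *ᵥ y = _
      rw [e, Matrix.neg_mulVec, Matrix.one_mulVec]
  · intro hx
    exact Subgroup.mem_center_iff.2 fun g => Subtype.ext (scal_comm hx g)

/-- coordinates of eight vectors in the shape of the diagram -/
def patVec : Fin 8 → Fin 7 → ZMod 3 :=
  ![![0, 0, 0, 0, 0, 0, 1], ![0, 0, 0, 1, 1, 1, 1], ![0, 0, 0, 0, 0, 1, 0], ![0, 0, 1, 1, 1, 1, 0],
    ![0, 1, 1, 1, 2, 0, 0], ![0, 1, 0, 0, 0, 0, 0], ![1, 0, 1, 1, 2, 0, 0], ![1, 0, 0, 0, 0, 0, 0]]

theorem patVec_ok : ∀ i j : Fin 8, patVec i ⬝ᵥ patVec i = 1 ∧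
    (i ≠ j → ((patVec i ⬝ᵥ patVec j = 0) ↔ adjP i j = false) ∧
      ∀ a : ZMod 3, patVec j ≠ a • patVec i) := by
  decide +kernel

section Abstract

variable {X A : Type*} [Group X] [Group A] {Z : Subgroup A} [Z.Normal]

theorem quot_pow (φ : X ≃* A ⧸ Z) {x : X} {a : A} {n : ℕ} (h : φ x = QuotientGroup.mk a) (e : x ^ n = 1) :
    a ^ n ∈ Z := by
  rw [← QuotientGroup.eq_one_iff, QuotientGroup.mk_pow, ← h, ← map_pow, e, map_one]

theorem exists_conj_image (φ : X ≃* A ⧸ Z) {T : Set X} (hconj : ∀ u : X, ∀ x ∈ T, u * x * u⁻¹ ∈ T) {x : X}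
    (hx : x ∈ T) {a : A} (h : φ x = QuotientGroup.mk a) (k : A) :
    ∃ y ∈ T, φ (x * y) = QuotientGroup.mk (a * (k * a * k⁻¹)) := by
  refine ⟨_, hconj (φ.symm (QuotientGroup.mk k)) x hx, ?_⟩
  simp only [map_mul, map_inv, φ.apply_symm_apply, h, QuotientGroup.mk_mul, QuotientGroup.mk_inv]

end Abstract

section Image

variable {X : Type*} [Group X]

/-- the set of transpositions of a projective reflection group is the class of the reflections -/
theorem image_class (hf : RefFacts Q c)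
    (φ : X ≃* ↥(Cfsg.reflectionSubgroup (⇑Q) c) ⧸ Subgroup.center ↥(Cfsg.reflectionSubgroup (⇑Q) c))
    {T : Set X} (hconj : ∀ u : X, ∀ x ∈ T, u * x * u⁻¹ ∈ T) (hgen : Subgroup.closure T = ⊤)
    (hsq : ∀ x ∈ T, x * x = 1) (hthree : ∀ x ∈ T, ∀ y ∈ T, (x * y) ^ 2 = 1 ∨ (x * y) ^ 3 = 1)
    {v : Fin 7 → ZMod 3} (hv : Q v = c) (r : ↥(Cfsg.reflectionSubgroup (⇑Q) c)) (hr : IsRefl v (r : Grp Q)) :
    φ.symm (QuotientGroup.mk r) ∈ T := by
  obtain ⟨m, hm, hm1⟩ := hf.neg
  have hn : 5 ≤ Module.finrank (ZMod 3) (Fin 7 → ZMod 3) := by rw [three_fin]; norm_num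
  have hidx := reflectionSubgroup_index hf.hB hn hf.hc
  have key : ∀ x ∈ T, x ≠ 1 → ∃ (w : Fin 7 → ZMod 3) (s : ↥(Cfsg.reflectionSubgroup (⇑Q) c)),
      Q w = c ∧ IsRefl w (s : Grp Q) ∧ φ x = QuotientGroup.mk s := by
    intro x hx hx1
    obtain ⟨g, hg⟩ := QuotientGroup.mk_surjective (φ x)
    have hg2 : (g : Grp Q) * g = 1 := by
      refine sq_scal ((hf.center (g * g)).1 ?_)
      rw [← QuotientGroup.eq_one_iff, QuotientGroup.mk_mul, hg, ← map_mul, hsq x hx, map_one]
    obtain ⟨h, hh, hneg⟩ : ∃ h : ↥(Cfsg.reflectionSubgroup (⇑Q) c), φ x = QuotientGroup.mk h ∧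
        ((h : Grp Q) * h = 1 ∧ Module.finrank (ZMod 3) (negSpace (h : Grp Q)) ≤ 3) := by
      by_cases h3 : Module.finrank (ZMod 3) (negSpace (g : Grp Q)) ≤ 3
      · exact ⟨g, hg.symm, hg2, h3⟩
      · refine ⟨g * ⟨m, hm⟩, ?_, ?_, ?_⟩
        · rw [← hg]
          refine QuotientGroup.eq.2 ?_
          rw [inv_mul_cancel_left]
          exact (hf.center _).2 (neg_one_scal hm1)
        · show (g : Grp Q) * m * (g * m) = 1
          have hmm : m * m = 1 := ext_ap fun y => by
            rw [ap_mul, hm1, hm1, neg_neg, ap_one]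
          rw [mul_assoc, ← mul_assoc m, ← scal_comm (neg_one_scal hm1) (g : Grp Q), mul_assoc (g : Grp Q),
            hmm, mul_one, hg2]
        · show Module.finrank (ZMod 3) (negSpace ((g : Grp Q) * m)) ≤ 3
          rw [negSpace_mul hm1]
          have := finrank_parts hg2
          rw [three_fin] at this
          omega
    obtain ⟨hh2, hd⟩ := hneg
    have hparts := finrank_parts hh2
    rw [three_fin] at hparts
    obtain ⟨d, hdd⟩ : ∃ d, d = Module.finrank (ZMod 3) (negSpace (h : Grp Q)) := ⟨_, rfl⟩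
    rcases Nat.lt_or_ge d 2 with h1 | h1
    · rcases (show d = 0 ∨ d = 1 by omega) with e | e
      · exfalso
        refine hx1 (φ.injective ?_)
        rw [hh, map_one, QuotientGroup.eq_one_iff]
        have hbot : negSpace (h : Grp Q) = ⊥ := Submodule.finrank_eq_zero.1 (hdd ▸ e)
        have h1' : (h : Grp Q) = 1 := ext_ap fun y => by
          obtain ⟨e1, e2, e3⟩ := half_decomp y hh2
          have e4 := mem_negSpace.2 e2
          rw [hbot, Submodule.mem_bot] at e4
          rw [e4, add_zero] at e3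
          rw [← e3, e1, ap_one]
        exact (hf.center h).2 (h1'.symm ▸ scal_one)
      · obtain ⟨w, hw0, hw⟩ := refl_of_line hf.hB hh2 (hdd ▸ e)
        refine ⟨w, h, ?_, hw, hh⟩
        rcases (by decide +kernel : ∀ q a : ZMod 3, q ≠ 0 → a ≠ 0 → q = a ∨ q = -a) (Q w) c hw0 hf.hc with e' | e'
        · exact e'
        · exact absurd h.2 (hf.out w _ hw e')
    · exfalso
      obtain ⟨k₀, hk₀⟩ := conj_far hf.hB hh2 (hdd ▸ h1) (by omega)
      obtain ⟨k, hk, hk'⟩ : ∃ k ∈ Cfsg.reflectionSubgroup (⇑Q) c,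
          k * (h : Grp Q) * k⁻¹ = k₀ * h * k₀⁻¹ := by
        by_cases hk : k₀ ∈ Cfsg.reflectionSubgroup (⇑Q) c
        · exact ⟨k₀, hk, rfl⟩
        obtain ⟨z, hz, hzq⟩ := exists_norm (nondeg_parts hf.hB hh2).1 (by omega) (-c)
        obtain ⟨s, hs⟩ := exists_refl hf.hB (show Q z ≠ 0 by rw [hzq]; exact neg_ne_zero.2 hf.hc)
        refine ⟨k₀ * s, ?_, ?_⟩
        · rw [Subgroup.mul_mem_iff_of_index_two hidx]
          exact iff_of_false hk (hf.out z s hs hzq)
        · have e := refl_conj hs (h : Grp Q)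
          rw [mem_fixSpace.1 hz] at e
          have e1 := refl_unique e hs
          have e2 : s * (h : Grp Q) * s⁻¹ = h := by
            rw [mul_inv_eq_iff_eq_mul] at e1 ⊢
            exact e1.symm
          rw [show k₀ * s * (h : Grp Q) * (k₀ * s)⁻¹ = k₀ * (s * h * s⁻¹) * k₀⁻¹ by group, e2]
      rw [← hk'] at hk₀
      obtain ⟨y, hy, hyk⟩ : ∃ y ∈ T, φ (x * y) = QuotientGroup.mk (h * (⟨k, hk⟩ * h * ⟨k, hk⟩⁻¹)) :=
        exists_conj_image φ hconj hx hh ⟨k, hk⟩
      rcases hthree x hx y hy with e | e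
      · refine hk₀.2.1 ?_
        have h2 := (hf.center _).1 (quot_pow φ hyk e)
        rwa [Subgroup.coe_pow, pow_two, Subgroup.coe_mul, Subgroup.coe_mul, Subgroup.coe_mul, Subgroup.coe_inv] at h2
      · refine hk₀.2.2 ?_
        have h2 := (hf.center _).1 (quot_pow φ hyk e)
        rwa [Subgroup.coe_pow, pow_three', Subgroup.coe_mul, Subgroup.coe_mul, Subgroup.coe_mul, Subgroup.coe_inv] at h2
  obtain ⟨x, hx, hx1⟩ : ∃ x ∈ T, x ≠ 1 := by
    by_contra h
    push Not at h
    have hbot : (⊤ : Subgroup X) = ⊥ := by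
      rw [← hgen, Subgroup.closure_eq_bot_iff]
      exact fun x hx => h x hx
    have h1 : φ.symm (QuotientGroup.mk r) = 1 := Subgroup.mem_bot.1 (hbot ▸ Subgroup.mem_top _)
    rw [EmbeddingLike.map_eq_one_iff, QuotientGroup.eq_one_iff, hf.center] at h1
    exact refl_not_scal hf.hB hr (by rw [hv]; exact hf.hc) h1
  obtain ⟨w, s, hw, hs, hxs⟩ := key x hx hx1
  obtain ⟨-, ⟨d, hd, hD⟩, -⟩ := orth_three_class hf.hB hn hf.hc
  have h1 : IsConj d s := (Set.ext_iff.1 hD _).1 ((norm_one_iff hf.hc _).2 ⟨w, hw, hs⟩)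
  have h2 : IsConj d r := (Set.ext_iff.1 hD _).1 ((norm_one_iff hf.hc _).2 ⟨v, hv, hr⟩)
  obtain ⟨u, hu⟩ := isConj_iff.1 (h1.symm.trans h2)
  have := hconj (φ.symm (QuotientGroup.mk u)) x hx
  rw [← φ.symm_apply_apply x, hxs, ← map_inv, ← map_mul, ← map_mul, ← QuotientGroup.mk_inv,
    ← QuotientGroup.mk_mul, ← QuotientGroup.mk_mul, hu] at this
  exact this

/-- eight transpositions in the shape of the diagram -/
theorem image_diagram (hf : RefFacts Q c)
    (φ : X ≃* ↥(Cfsg.reflectionSubgroup (⇑Q) c) ⧸ Subgroup.center ↥(Cfsg.reflectionSubgroup (⇑Q) c))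
    {T : Set X} (hconj : ∀ u : X, ∀ x ∈ T, u * x * u⁻¹ ∈ T) (hgen : Subgroup.closure T = ⊤)
    (hsq : ∀ x ∈ T, x * x = 1) (hthree : ∀ x ∈ T, ∀ y ∈ T, (x * y) ^ 2 = 1 ∨ (x * y) ^ 3 = 1) :
    ∃ x : Fin 8 → X, (∀ i, x i ∈ T) ∧ ∀ i j, i ≠ j → x i ≠ x j ∧ (Commute (x i) (x j) ↔ adjP i j = false) := by
  obtain ⟨lin, hlin⟩ := hf.lin
  have hq : ∀ i, Q (lin (patVec i)) = c := fun i =>
    norm_of_polar (by rw [hlin, (patVec_ok i i).1, mul_one])
  have hex : ∀ i, ∃ r : ↥(Cfsg.reflectionSubgroup (⇑Q) c), IsRefl (lin (patVec i)) (r : Grp Q) := fun i => by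
    obtain ⟨r, hr⟩ := exists_refl hf.hB (show Q (lin (patVec i)) ≠ 0 by rw [hq]; exact hf.hc)
    exact ⟨⟨r, refl_mem_ref hf.hc hr (hq i)⟩, hr⟩
  choose r hr using hex
  refine ⟨fun i => φ.symm (QuotientGroup.mk (r i)),
    fun i => image_class hf φ hconj hgen hsq hthree (hq i) _ (hr i), fun i j hij => ?_⟩
  have hpar := (patVec_ok i j).2 hij
  have hne : ∀ a : ZMod 3, lin (patVec j) ≠ a • lin (patVec i) := fun a e =>
    hpar.2 a (lin.injective (by rw [e, map_smul]))
  have hb : B (lin (patVec i)) (lin (patVec j)) = 0 ↔ adjP i j = false := by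
    rw [hlin, ← hpar.1]
    simp [mul_eq_zero, hf.hc, two_ne]
  refine ⟨fun e => ?_, ?_⟩
  · have e1 := QuotientGroup.eq.1 (φ.symm.injective e)
    rw [hf.center, Subgroup.coe_mul, Subgroup.coe_inv, refl_inv (hr i)] at e1
    have e2 := refl_scal hf.hB (hr i) (hr j) e1
    have e3 := refl_self (hr j)
    rw [← e2] at e3
    obtain ⟨a, ha⟩ := refl_line (hr i) e3
    exact hne a ha
  · rw [← hb]
    constructor
    · intro hcom
      by_contra hbne
      have hcom' := (hcom.map φ.toMonoidHom).eq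
      simp only [MulEquiv.coe_toMonoidHom, φ.apply_symm_apply, ← QuotientGroup.mk_mul] at hcom'
      have e1 := QuotientGroup.eq.1 hcom'
      rw [hf.center] at e1
      simp only [_root_.mul_inv_rev, Subgroup.coe_mul, Subgroup.coe_inv, refl_inv (hr i), refl_inv (hr j)] at e1
      have hconjr := refl_conj (hr i) (r j : Grp Q)
      rw [refl_inv (hr j)] at hconjr
      have e2 := refl_scal hf.hB hconjr (hr i) (by simpa only [mul_assoc] using e1)
      have e3 := refl_self hconjr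
      rw [e2] at e3
      obtain ⟨a, ha⟩ := refl_line (hr i) e3
      rw [refl_apply_three (hr j), hq, b_comm] at ha
      refine hne ((c * B (lin (patVec i)) (lin (patVec j)))⁻¹ * (1 - a)) ?_
      rw [← smul_smul, sub_smul, one_smul, ← ha, sub_sub_cancel, smul_smul,
        inv_mul_cancel₀ (mul_ne_zero hf.hc hbne), one_smul]
    · intro hb0
      have e1 := refl_conj (hr i) (r j : Grp Q)
      rw [refl_fix (hr j) (by rw [b_comm]; exact hb0)] at e1
      have e2 := refl_unique e1 (hr i)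
      rw [mul_inv_eq_iff_eq_mul] at e2
      have e3 : Commute (r j) (r i) := Subtype.ext e2
      exact ((e3.symm.map (QuotientGroup.mk' _)).map φ.symm.toMonoidHom)

/-- the order of a projective reflection group in dimension seven -/
theorem card_image (φ : X ≃* ↥(Cfsg.reflectionSubgroup (⇑Q) c) ⧸ Subgroup.center ↥(Cfsg.reflectionSubgroup (⇑Q) c)) :
    ¬ 2 ^ 17 ∣ Nat.card X := by
  intro h
  rw [Nat.card_congr φ.toEquiv] at h
  have h1 := (h.trans (Subgroup.card_quotient_dvd_card _)).trans (Subgroup.card_subgroup_dvd_card _)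
  have h2 := h1.trans (Subgroup.card_subgroup_dvd_card _)
  rw [Matrix.card_GL_field, ZMod.card, Fin.prod_univ_seven] at h2
  norm_num at h2

end Image

end CfsgLib.M23
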