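import Cfsg.Agent.Lib.M23.Recog
import Cfsg.Agent.Lib.M23.PerpHyps
import Cfsg.Agent.Lib.Fi23Pres.TransClass

/-!
Groups of type M(23).
-/

set_option autoImplicit false

namespace CfsgLib.M23

open Cfsg.Spor

universe u

theorem type_m23_fi23_of (hrec : ∀ {X : Type u} [Group X] [Finite X] {E : Set X},
      Cfsg.IsThreeTranspositionGroup E → Cfsg.IsPrimitiveUnderConj E → Cfsg.IsOfTypeM22 X E →
      ∃ e : X ≃* Fi22, e '' E = conjugatesOf (Fi22Pres.gen 0))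
    {G : Type u} [Group G] [Finite G] {D : Set G} (hD : Cfsg.IsThreeTranspositionGroup D)
    (hprim : Cfsg.IsPrimitiveUnderConj D) (ht : Cfsg.IsOfTypeM23 G D) :
    ∃ Φ : Fi23 ≃* G, Φ '' Fi23Pres.transClass = D := by
  obtain ⟨hZ, d, hd, c, hc, hdc, h22, c₃, hc₃, hL⟩ := ht
  obtain ⟨hE, -, hEp, -, -⟩ := perp_hyps hD hprim hZ hd h22
  obtain ⟨e, he⟩ := hrec hE hEp h22
  exact recognition hD hprim hZ hd hc hdc e he hc₃ hL

end CfsgLib.M23
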